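import Cfsg.Agent.Lib.Perm.Partition.SemiBasic

/-!
A partition with a member containing a Sylow 2-subgroup.
-/

set_option autoImplicit false
set_option linter.style.haveILetI false

namespace CfsgLib.Perm.Partition

open MulAction

variable {G : Type*} [Group G] [Finite G]

/-- A member of a partition with its normaliser: the pair is a Frobenius system. -/
theorem sys_of_member_sylow [Nontrivial G] (P : Part G) (hN : P.NSN)
    (hR : ∀ N : Subgroup G, N.Normal → Group.IsSolvable N → N = ⊥) {x₀ : G} (hx₀ : x₀ ≠ 1)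
    (S : Sylow 2 G) (hSA : (S : Subgroup G) ≤ P.comp x₀) :
    ∃ M F : Subgroup G, CfsgLib.Perm.FrobSystem.Sys M F ∧ 2 ∣ Nat.card F := by
  classical
  haveI : Fact (Nat.Prime 2) := ⟨Nat.prime_two⟩
  set A := P.comp x₀ with hAdef
  haveI hAnil : Group.IsNilpotent A := P.isNilpotent hN hx₀
  set M := Subgroup.normalizer (A : Set G) with hMdef
  set pt : G ⧸ M := ((1 : G) : G ⧸ M) with hpt
  have hAM : A ≤ M := Subgroup.le_normalizer
  have hnorm : ∀ g ∈ M, ∀ u ∈ A, g * u * g⁻¹ ∈ A := fun g hg u hu =>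
    (Subgroup.mem_normalizer_iff.1 hg u).1 hu
  have hmemM : ∀ g u : G, u ∈ A → u ≠ 1 → g * u * g⁻¹ ∈ A → g ∈ M := by
    intro g u hu hu1 h
    refine Subgroup.mem_normalizer_iff_map_conj_eq.2 (Subgroup.eq_of_le_of_card_ge ?_
      (le_of_eq (Subgroup.card_map_of_injective (MulAut.conj g).injective).symm))
    rintro _ ⟨y, hy, rfl⟩
    exact P.normalizes hx₀ hu hu1 h hy
  have hcompA : ∀ u ∈ A, u ≠ 1 → P.comp u = A := fun u hu hu1 => P.eq_of_mem x₀ u hx₀ hu hu1
  have h2G := even_card hR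
  have hS2 : 2 ∣ Nat.card (S : Subgroup G) := by
    rw [S.card_eq_multiplicity]
    exact dvd_pow_self 2 (Nat.Prime.factorization_pos_of_dvd Nat.prime_two Nat.card_pos.ne' h2G).ne'
  have hA2 : 2 ∣ Nat.card A := hS2.trans (Subgroup.card_dvd_of_le hSA)
  have hMtop : M ≠ ⊤ := by
    intro h
    haveI : A.Normal := Subgroup.normalizer_eq_top_iff.1 h
    have := hR A inferInstance inferInstance
    exact hx₀ (Subgroup.mem_bot.1 (this ▸ P.mem x₀ hx₀))
  -- 2-elements of `M` lie in `A`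
  have hinvA : ∀ t ∈ M, orderOf t = 2 → t ∈ A := by
    intro t htM ht
    have hSn : t ∈ Subgroup.normalizer ((S : Subgroup G) : Set G) := by
      refine Subgroup.mem_normalizer_iff_map_conj_eq.2 (Subgroup.eq_of_le_of_card_ge ?_
        (le_of_eq (Subgroup.card_map_of_injective (MulAut.conj t).injective).symm))
      rintro _ ⟨y, hy, rfl⟩
      obtain ⟨k, hk⟩ := S.isPGroup' ⟨y, hy⟩
      refine mem_sylow_of_nilpotent S hSA (hnorm t htM y (hSA hy)) (k := k) ?_
      show (t * y * t⁻¹) ^ 2 ^ k = 1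
      rw [conj_pow, show y ^ 2 ^ k = 1 from congrArg Subtype.val hk, mul_one, mul_inv_cancel]
    have hp : IsPGroup 2 ((S : Subgroup G) ⊔ Subgroup.zpowers t : Subgroup G) :=
      IsPGroup.to_sup_of_normal_left' S.isPGroup'
        (IsPGroup.of_card (n := 1) (by rw [Nat.card_zpowers, ht, pow_one]))
        (Subgroup.zpowers_le.2 hSn)
    have := S.is_maximal' hp le_sup_left
    exact hSA (this ▸ Subgroup.mem_sup_right (Subgroup.mem_zpowers t))
  have hCA : ∀ t ∈ A, orderOf t = 2 → ∀ y, y * t = t * y → y ∈ A := by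
    intro t htA ht y hy
    by_contra hyA
    have hy1 : y ≠ 1 := fun e => hyA (e ▸ one_mem A)
    have hyM : y ∈ M := hmemM y t htA (ne_one_of_two ht) (by rwa [hy, mul_inv_cancel_right])
    exact hyA (hinvA y hyM ((P.prime_orderOf (ne_one_of_two ht) hy1
      (by rwa [hcompA t htA (ne_one_of_two ht)]) (show Commute t y from hy.symm)).2.trans ht))
  have hcf : ∀ g s : G, s • (g : G ⧸ M) = g ↔ g⁻¹ * s * g ∈ M := by
    intro g s
    rw [Quotient.smul_mk, smul_eq_mul, QuotientGroup.eq]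
    constructor
    · intro h; simpa [mul_assoc] using inv_mem h
    · intro h; simpa [mul_assoc] using inv_mem h
  have huniq : ∀ s : G, orderOf s = 2 → ∀ x y : G ⧸ M, s • x = x → s • y = y → x = y := by
    intro s hs x y hx hy
    obtain ⟨g, rfl⟩ := QuotientGroup.mk_surjective x
    obtain ⟨g', rfl⟩ := QuotientGroup.mk_surjective y
    have h1 := hinvA _ ((hcf g s).1 hx) ((CfsgLib.Perm.FrobSystem.orderOf_conj' g s).trans hs)
    have h2 := hinvA _ ((hcf g' s).1 hy) ((CfsgLib.Perm.FrobSystem.orderOf_conj' g' s).trans hs)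
    refine QuotientGroup.eq.2 (inv_mem_iff.1 ?_)
    rw [mul_inv_rev, inv_inv]
    refine hmemM _ _ h1 (ne_one_of_two ((CfsgLib.Perm.FrobSystem.orderOf_conj' g s).trans hs)) ?_
    rwa [show g'⁻¹ * g * (g⁻¹ * s * g) * (g'⁻¹ * g)⁻¹ = g'⁻¹ * s * g' by group]
  have hSE : Cfsg.IsStronglyEmbedded M := by
    refine ⟨hMtop, even_iff_two_dvd.2 (hA2.trans (Subgroup.card_dvd_of_le hAM)), fun g hg => ?_⟩
    rw [← Nat.not_even_iff_odd]
    intro he
    obtain ⟨t, htD, ht⟩ := CfsgLib.Involution.Basic.exists_involution_of_even _ he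
    obtain ⟨s, hs, hst⟩ := htD.2
    have hst' : g * s * g⁻¹ = t := hst
    have hso : orderOf s = 2 := by rw [← orderOf_conj g s, hst', ht]
    exact hg (hmemM g s (hinvA s hs hso) (ne_one_of_two hso) (hst' ▸ hinvA t htD.1 ht))
  have hcomm := exists_commuting hR
  have hindex : ¬ 2 ∣ M.index := fun h =>
    S.not_dvd_index (h.trans (Subgroup.index_dvd_of_le (hSA.trans hAM)))
  -- the action
  have hsmul_pt : ∀ g : G, g • pt = pt ↔ g ∈ M := fun g => by
    rw [hpt, hcf 1 g, inv_one, one_mul, mul_one]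
  have hpre : ∀ y z : G ⧸ M, y ≠ pt → z ≠ pt → ∃ g ∈ M, g • y = z := by
    intro y z hy hz
    obtain ⟨g₁, hg₁⟩ := CfsgLib.Perm.FrobSystem.exists_move y
    obtain ⟨g₂, hg₂⟩ := CfsgLib.Perm.FrobSystem.exists_move z
    obtain ⟨k, hk, e⟩ := CfsgLib.LocalEven.BenderTransitive.exists_smul_mem hSE hcomm g₁ g₂
      (CfsgLib.Perm.FrobSystem.notMem_of_ne hy hg₁) (CfsgLib.Perm.FrobSystem.notMem_of_ne hz hg₂)
    refine ⟨k, hk, ?_⟩
    rw [← hg₁, ← hg₂]
    calc k • g₁ • pt = g₂ • (g₂⁻¹ * (k * g₁)) • pt := by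
          rw [smul_smul, smul_smul, mul_inv_cancel_left]
      _ = _ := by rw [(hsmul_pt _).2 e]
  have h2t : IsMultiplyPretransitive G (G ⧸ M) 2 := by
    rw [is_two_pretransitive_iff]
    intro x y z w hxy hzw
    obtain ⟨g₁, hg₁⟩ := CfsgLib.Perm.FrobSystem.exists_move x
    obtain ⟨g₂, hg₂⟩ := CfsgLib.Perm.FrobSystem.exists_move z
    obtain ⟨k, hk, e⟩ := hpre (g₁⁻¹ • y) (g₂⁻¹ • w)
      (fun e => hxy (hg₁.symm.trans (inv_smul_eq_iff.1 e).symm))
      (fun e => hzw (hg₂.symm.trans (inv_smul_eq_iff.1 e).symm))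
    refine ⟨g₂ * k * g₁⁻¹, ?_, ?_⟩
    · rw [mul_smul, mul_smul, ← hg₁, inv_smul_smul, (hsmul_pt k).2 hk, hg₂]
    · rw [mul_smul, mul_smul, e, smul_inv_smul]
  obtain ⟨g₀, hg₀⟩ : ∃ g, g ∉ M := by
    by_contra hc
    push Not at hc
    exact hMtop (eq_top_iff.2 fun g _ => hc g)
  set b₀ := g₀ • pt with hb₀def
  have hb₀ : b₀ ≠ pt := fun e => hg₀ ((hsmul_pt _).1 e)
  have hjk := card_fix_eq_card_swap huniq h2t hindex hb₀
  obtain ⟨t₀, ht₀A, ht₀⟩ := CfsgLib.Involution.Basic.exists_involution_of_even A (even_iff_two_dvd.2 hA2)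
  obtain ⟨t, htb⟩ : ∃ t : {s : G // orderOf s = 2}, (t : G) • pt = b₀ := by
    have hne : 0 < Nat.card {s : {s : G // orderOf s = 2} // (s : G) • pt = b₀} := by
      rw [← hjk]
      haveI : Nonempty {s : {s : G // orderOf s = 2} // (s : G) • pt = pt} :=
        ⟨⟨⟨t₀, ht₀⟩, (hsmul_pt _).2 (hAM ht₀A)⟩⟩
      exact Nat.card_pos
    obtain ⟨⟨s, hs⟩⟩ := (Nat.card_pos_iff.1 hne).1
    exact ⟨s, hs⟩
  obtain ⟨t, ht⟩ := t
  simp only at htb
  have htt := mul_self_of_two ht
  have hti := inv_of_two ht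
  have htp : t • b₀ = pt := by rw [← htb, smul_smul, htt, one_smul]
  set A' := A.subgroupOf M with hA'
  haveI hA'n : A'.Normal := ⟨fun u hu g => hnorm g g.2 u hu⟩
  have hswap : ∀ s : {s : {s : G // orderOf s = 2} // (s : G) • pt = b₀}, t * s.1.1 ∈ M := fun s =>
    (hsmul_pt _).1 (by rw [mul_smul, s.2, htp])
  let φ : {s : {s : G // orderOf s = 2} // (s : G) • pt = b₀} → M ⧸ A' := fun s =>
    ((⟨t * s.1.1, hswap s⟩ : M) : M ⧸ A')
  have hφinj : Function.Injective φ := by
    intro s s' e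
    have e0 : ((⟨t * s.1.1, hswap s⟩ : M) : M ⧸ A') = ((⟨t * s'.1.1, hswap s'⟩ : M) : M ⧸ A') := e
    have he0 := QuotientGroup.eq.1 e0
    have he : (t * s.1.1)⁻¹ * (t * s'.1.1) ∈ A := he0
    have hs : ∀ r : {s : {s : G // orderOf s = 2} // (s : G) • pt = b₀}, (r.1.1 : G) • b₀ = pt :=
      fun r => (congrArg (r.1.1 • ·) r.2).symm.trans (by
        rw [smul_smul, mul_self_of_two r.1.2, one_smul])
    rw [show (t * s.1.1)⁻¹ * (t * s'.1.1) = s.1.1 * s'.1.1 by
      rw [mul_inv_rev, inv_of_two s.1.2, hti, mul_assoc, ← mul_assoc t t, htt, one_mul]] at he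
    refine Subtype.ext (Subtype.ext ?_)
    by_contra hne
    -- the product lies in `A` and is inverted by the exchanging involution `s`
    have h1 : s.1.1 * (s.1.1 * s'.1.1) * s.1.1⁻¹ ∈ A := by
      rw [show s.1.1 * (s.1.1 * s'.1.1) * s.1.1⁻¹ = (s.1.1 * s.1.1) * s'.1.1 * s.1.1⁻¹ by group,
        mul_self_of_two s.1.2, one_mul, inv_of_two s.1.2]
      have := inv_mem he
      rwa [mul_inv_rev, inv_of_two s.1.2, inv_of_two s'.1.2] at this
    have hne1 : s.1.1 * s'.1.1 ≠ 1 := fun e1 =>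
      hne ((inv_of_two s.1.2).symm.trans (inv_eq_of_mul_eq_one_right e1))
    have := (hsmul_pt _).2 (hmemM _ _ he hne1 h1)
    exact hb₀ (s.2.symm.trans this)
  have hψ : Nat.card (M ⧸ A') ≤
      Nat.card {s : {s : G // orderOf s = 2} // (s : G) • pt = pt} := by
    refine Nat.card_le_card_of_injective (fun q => ⟨⟨(q.out : G) * t₀ * (q.out : G)⁻¹,
      (orderOf_conj _ _).trans ht₀⟩,
      (hsmul_pt _).2 (mul_mem (mul_mem q.out.2 (hAM ht₀A)) (inv_mem q.out.2))⟩) fun q q' e => ?_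
    have e' : (q.out : G) * t₀ * (q.out : G)⁻¹ = (q'.out : G) * t₀ * (q'.out : G)⁻¹ :=
      congrArg (fun r => r.1.1) e
    have hmem : (q.out : G)⁻¹ * q'.out ∈ A := hCA t₀ ht₀A ht₀ _ (by
      calc (q.out : G)⁻¹ * q'.out * t₀
          = (q.out : G)⁻¹ * ((q'.out : G) * t₀ * (q'.out : G)⁻¹) * q'.out := by group
        _ = _ := by rw [← e']; group)
    rw [← q.out_eq, ← q'.out_eq]
    exact QuotientGroup.eq.2 hmem
  have hφsurj : Function.Surjective φ :=
    (hφinj.bijective_of_nat_card_le (by rw [← hjk]; exact hψ)).2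
  -- every element of `M` is a swapping product times an element of `A`
  have hdec : ∀ m ∈ M, ∃ s : G, orderOf s = 2 ∧ s • pt = b₀ ∧ (t * s)⁻¹ * m ∈ A := by
    intro m hm
    obtain ⟨s, hs⟩ := hφsurj ((⟨m, hm⟩ : M) : M ⧸ A')
    have hs0 : ((⟨t * s.1.1, hswap s⟩ : M) : M ⧸ A') = ((⟨m, hm⟩ : M) : M ⧸ A') := hs
    have hs1 := QuotientGroup.eq.1 hs0
    exact ⟨s.1.1, s.1.2, s.2, hs1⟩
  have hfixD : ∀ s : G, orderOf s = 2 → s • pt = b₀ → (t * s) • pt = pt ∧ (t * s) • b₀ = b₀ := by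
    intro s hs hsb
    refine ⟨by rw [mul_smul, hsb, htp], ?_⟩
    have h1 : s • b₀ = pt := by rw [← hsb, smul_smul, mul_self_of_two hs, one_smul]
    rw [mul_smul, h1, htb]
  have htrA : ∀ y : G ⧸ M, y ≠ pt → ∃ a ∈ A, a • b₀ = y := by
    intro y hy
    obtain ⟨m, hm, hmy⟩ := hpre b₀ y hb₀ hy
    obtain ⟨s, hs, hsb, ha⟩ := hdec m hm
    obtain ⟨hd1, hd2⟩ := hfixD s hs hsb
    refine ⟨(t * s) * ((t * s)⁻¹ * m) * (t * s)⁻¹, hnorm _ ((hsmul_pt _).1 hd1) _ ha, ?_⟩
    rw [mul_inv_cancel_left, mul_smul]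
    conv_lhs => rw [show (t * s)⁻¹ • b₀ = b₀ from inv_smul_eq_iff.2 hd2.symm]
    exact hmy
  have hfixM : ∀ c : G, (∀ y : G ⧸ M, c • y = y) → c = 1 := by
    intro c hc
    have hK : M.normalCore = ⊥ := by
      refine hR _ inferInstance (Cfsg.Agent.S0205.result ?_)
      rw [← Nat.not_even_iff_odd]
      intro he
      obtain ⟨z, hz, hz2⟩ := CfsgLib.Involution.Basic.exists_involution_of_even _ he
      have hzfix : ∀ y : G ⧸ M, z • y = y := by
        rw [Subgroup.normalCore_eq_ker, MonoidHom.mem_ker] at hz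
        exact fun y => congrArg (fun p : Equiv.Perm (G ⧸ M) => p y) hz
      exact hb₀ (huniq z hz2 b₀ pt (hzfix b₀) (hzfix pt))
    refine Subgroup.mem_bot.1 (hK ▸ ?_)
    rw [Subgroup.normalCore_eq_ker, MonoidHom.mem_ker]
    exact Equiv.ext fun y => hc y
  -- the conjugate of `A` attached to `b₀`
  have hE1 : ∀ e ∈ A, e • b₀ = b₀ → e = 1 := by
    intro e heA heb
    by_contra he1
    have htM : t ∉ M := fun h => hb₀ (htb.symm.trans ((hsmul_pt t).2 h))
    have het : t * e * t⁻¹ ∈ M := (hsmul_pt _).1 (by rw [hti, mul_smul, mul_smul, htb, heb, htp])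
    set w := t * e * t⁻¹ with hw
    have hw1 : w ≠ 1 := fun h => he1 (conj_eq_one_iff.1 h)
    have hwA : w ∉ A := fun h => htM (hmemM t e heA he1 h)
    -- `e` commutes with `w`
    have hnB : ∀ u ∈ A, e * (t * u * t⁻¹) * e⁻¹ = t * (t⁻¹ * e * t * u * (t⁻¹ * e * t)⁻¹) * t⁻¹ :=
      fun u _ => by group
    have het' : t⁻¹ * e * t ∈ M := by rwa [hti, ← show t * e * t⁻¹ = t * e * t by rw [hti]]
    have hew : Commute e w := by
      have h1 : e * w * e⁻¹ * w⁻¹ ∈ A := by
        rw [show e * w * e⁻¹ * w⁻¹ = e * (w * e⁻¹ * w⁻¹) by group]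
        exact mul_mem heA (hnorm w het _ (inv_mem heA))
      have h2 : t⁻¹ * (e * w * e⁻¹ * w⁻¹) * t ∈ A := by
        have h3 := mul_mem (hnorm _ het' e heA) (inv_mem heA)
        rw [hw, hnB e heA]
        rwa [show t⁻¹ * (t * (t⁻¹ * e * t * e * (t⁻¹ * e * t)⁻¹) * t⁻¹ * (t * e * t⁻¹)⁻¹) * t =
          t⁻¹ * e * t * e * (t⁻¹ * e * t)⁻¹ * e⁻¹ by group]
      by_contra hne
      refine htM (inv_mem_iff.1 (hmemM t⁻¹ _ h1 (fun h => hne ?_) (by rwa [inv_inv])))
      exact mul_inv_eq_iff_eq_mul.1 (mul_inv_eq_one.1 h)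
    obtain ⟨hqp, hqo⟩ := P.prime_orderOf he1 hw1 (by rwa [hcompA e heA he1]) hew
    haveI : Fact (orderOf e).Prime := ⟨hqp⟩
    set q := orderOf e
    have hqA : q ∣ Nat.card A := A.orderOf_dvd_natCard heA
    -- `w` fixes a central element of order `q`
    obtain ⟨c₀, hc₀A, hc₀q, hc₀1, hc₀Z⟩ := exists_central_of_prime (A := A) (q := q) hqA
    let Z : Subgroup G :=
      { carrier := {c | c ∈ A ∧ c ^ q = 1 ∧ ∀ a ∈ A, a * c = c * a}
        one_mem' := ⟨one_mem A, one_pow q, fun a _ => by simp⟩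
        mul_mem' := fun {c d} hc hd => ⟨mul_mem hc.1 hd.1, by
          rw [(show Commute c d from hd.2.2 c hc.1).mul_pow, hc.2.1, hd.2.1, one_mul], fun a ha => by
          rw [← mul_assoc, hc.2.2 a ha, mul_assoc, hd.2.2 a ha, ← mul_assoc]⟩
        inv_mem' := fun {c} hc => ⟨inv_mem hc.1, by rw [inv_pow, hc.2.1, inv_one], fun a ha =>
          (show Commute a c from hc.2.2 a ha).inv_right⟩ }
    have hZn : ∀ c ∈ Z, w * c * w⁻¹ ∈ Z := by
      rintro c ⟨hcA, hcq, hcZ⟩
      refine ⟨hnorm w het c hcA, by rw [conj_pow, hcq, mul_one, mul_inv_cancel], fun a ha => ?_⟩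
      have := hcZ (w⁻¹ * a * w) (by
        have := hnorm w⁻¹ (inv_mem het) a ha
        rwa [inv_inv] at this)
      calc a * (w * c * w⁻¹) = w * ((w⁻¹ * a * w) * c) * w⁻¹ := by group
        _ = w * (c * (w⁻¹ * a * w)) * w⁻¹ := by rw [this]
        _ = _ := by group
    have hwN : Subgroup.zpowers w ≤ Subgroup.normalizer (Z : Set G) := by
      rw [Subgroup.zpowers_le]
      refine Subgroup.mem_normalizer_iff_map_conj_eq.2 (Subgroup.eq_of_le_of_card_ge ?_
        (le_of_eq (Subgroup.card_map_of_injective (MulAut.conj w).injective).symm))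
      rintro _ ⟨c, hc, rfl⟩
      exact hZn c hc
    letI : MulAction (Subgroup.zpowers w) Z :=
      MulAction.compHom Z ((Z.normalizerMonoidHom).comp (Subgroup.inclusion hwN))
    have hWp : IsPGroup q (Subgroup.zpowers w) :=
      IsPGroup.of_card (n := 1) (by rw [Nat.card_zpowers, hqo, pow_one])
    obtain ⟨c, hcfix, hc1⟩ := hWp.exists_fixed_point_of_prime_dvd_card_of_fixed_point Z (by
      have hmem : c₀ ∈ Z := ⟨hc₀A, hc₀q, hc₀Z⟩
      have := Z.orderOf_dvd_natCard hmem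
      rwa [orderOf_eq_prime hc₀q hc₀1] at this) (a := 1) (fun g => map_one
        ((Z.normalizerMonoidHom).comp (Subgroup.inclusion hwN) g))
    have hcw : w * (c : G) * w⁻¹ = c := congrArg Subtype.val (hcfix ⟨w, Subgroup.mem_zpowers w⟩)
    have hc1' : (c : G) ≠ 1 := fun h => hc1 (Subtype.ext h.symm)
    -- so `c` fixes `b₀`
    have hcb : (c : G) • b₀ = b₀ := by
      have hcM : t⁻¹ * c * t ∈ M := hmemM _ e heA he1 (by
        have hwc : (c : G) * w * (c : G)⁻¹ = w := by
          rw [mul_inv_eq_iff_eq_mul]; exact (mul_inv_eq_iff_eq_mul.1 hcw).symm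
        rw [show t⁻¹ * c * t * e * (t⁻¹ * (c : G) * t)⁻¹ = t⁻¹ * ((c : G) * w * (c : G)⁻¹) * t by
          rw [hw]; group, hwc, hw]
        simpa [mul_assoc] using heA)
      rw [← htb]
      calc (c : G) • t • pt = t • (t⁻¹ * c * t) • pt := by
            rw [smul_smul, smul_smul]
            congr 1
            group
        _ = _ := by rw [(hsmul_pt _).2 hcM]
    refine hc1' (hfixM _ fun y => ?_)
    by_cases hy : y = pt
    · rw [hy]; exact (hsmul_pt _).2 (hAM c.2.1)
    · obtain ⟨a, ha, hay⟩ := htrA y hy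
      rw [← hay, smul_smul, ← c.2.2.2 a ha, mul_smul, hcb]
  have hfree : ∀ a ∈ A, ∀ y : G ⧸ M, y ≠ pt → a • y = y → a = 1 := by
    intro a ha y hy hay
    obtain ⟨a', ha', rfl⟩ := htrA y hy
    have := hE1 (a'⁻¹ * a * a') (mul_mem (mul_mem (inv_mem ha') ha) ha') (by
      rw [mul_smul, mul_smul, hay, inv_smul_smul])
    have e : a' * (a'⁻¹ * a * a') * a'⁻¹ = a := by group
    rw [← e, this, mul_one, mul_inv_cancel]
  -- no element outside `A` centralises an element of `A`
  have hfpf : ∀ x ∈ M, x ∉ A → ∀ u ∈ A, u * x = x * u → u = 1 := by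
    intro x hxM hxA u huA hux
    by_contra hu1
    have hx1 : x ≠ 1 := fun e => hxA (e ▸ one_mem A)
    obtain ⟨hqp, hxo⟩ := P.prime_orderOf hu1 hx1 (by rwa [hcompA u huA hu1])
      (show Commute u x from hux)
    haveI : Fact (orderOf u).Prime := ⟨hqp⟩
    set q := orderOf u
    obtain ⟨s, hs, hsb, hd⟩ := hdec x hxM
    obtain ⟨hd1, hd2⟩ := hfixD s hs hsb
    set d := t * s with hddef
    have hdM : d ∈ M := (hsmul_pt _).1 hd1
    have hdA : d ∉ A := fun h => hxA (by simpa using mul_mem h hd)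
    have hd1' : d ≠ 1 := fun e => hdA (e ▸ one_mem A)
    have hdq : d ^ q ∈ A := by
      have hmk : ((⟨d, hdM⟩ : M) : M ⧸ A') = ((⟨x, hxM⟩ : M) : M ⧸ A') := QuotientGroup.eq.2 hd
      have : ((⟨d, hdM⟩ : M) ^ q : M) ∈ A' := by
        rw [← QuotientGroup.eq_one_iff, QuotientGroup.mk_pow, hmk, ← QuotientGroup.mk_pow,
          show (⟨x, hxM⟩ : M) ^ q = 1 from Subtype.ext (by
            show x ^ q = 1
            rw [← hxo, pow_orderOf_eq_one]), QuotientGroup.mk_one]
      exact this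
    have hdq1 : d ^ q = 1 := P.pow_eq_one hx₀ hdA hdq
    have hdo : orderOf d = q := orderOf_eq_prime hdq1 hd1'
    -- `d` centralises an element of `A`
    obtain ⟨c₀, hc₀A, hc₀q, hc₀1, -⟩ := exists_central_of_prime (A := A) (q := q)
      (A.orderOf_dvd_natCard huA)
    have hdN : Subgroup.zpowers d ≤ M := Subgroup.zpowers_le.2 hdM
    letI : MulAction (Subgroup.zpowers d) A :=
      MulAction.compHom A ((A.normalizerMonoidHom).comp (Subgroup.inclusion hdN))
    have hDp : IsPGroup q (Subgroup.zpowers d) :=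
      IsPGroup.of_card (n := 1) (by rw [Nat.card_zpowers, hdo, pow_one])
    obtain ⟨c, hcfix, hc1⟩ := hDp.exists_fixed_point_of_prime_dvd_card_of_fixed_point A
      (A.orderOf_dvd_natCard huA) (a := 1) (fun g => map_one
        ((A.normalizerMonoidHom).comp (Subgroup.inclusion hdN) g))
    have hcd : d * (c : G) * d⁻¹ = c := congrArg Subtype.val (hcfix ⟨d, Subgroup.mem_zpowers d⟩)
    have hc1' : (c : G) ≠ 1 := fun h => hc1 (Subtype.ext h.symm)
    -- the centraliser of `d` in `A` is a `q`-group of odd order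
    set C := A ⊓ Subgroup.centralizer ({d} : Set G) with hC
    have hCq : IsPGroup q C := by
      rintro ⟨a, haA, haC⟩
      refine ⟨1, Subtype.ext ?_⟩
      show a ^ q ^ 1 = 1
      rw [pow_one]
      by_cases ha1 : a = 1
      · rw [ha1, one_pow]
      · have h' := (P.prime_orderOf ha1 hd1' (by rwa [hcompA a haA ha1])
          (show Commute a d from Subgroup.mem_centralizer_singleton_iff.1 haC)).2
        rw [hdo] at h'
        rw [h', pow_orderOf_eq_one]
    have hq2 : q ≠ 2 := fun h2 => hdA (hinvA d hdM (hdo.trans h2))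
    have hCodd : Odd (Nat.card C) := by
      obtain ⟨i, hi⟩ := IsPGroup.iff_card.1 hCq
      rw [hi]
      exact (hqp.odd_of_ne_two hq2).pow
    have hdt : t * d * t⁻¹ = d⁻¹ := by
      rw [hddef, mul_inv_rev, inv_of_two hs, hti, ← mul_assoc, htt, one_mul]
    -- the fixed points of `d`
    have hfixa : ∀ a ∈ A, d • (a • b₀) = a • b₀ → a ∈ C := by
      intro a ha h
      refine ⟨ha, Subgroup.mem_centralizer_singleton_iff.2 ?_⟩
      have h1 : a⁻¹ * (d * a * d⁻¹) = 1 := hE1 _ (mul_mem (inv_mem ha) (hnorm d hdM a ha)) (by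
        conv_lhs => arg 2; rw [← hd2]
        rw [smul_smul, mul_assoc, inv_mul_cancel_right, mul_smul, mul_smul, h, inv_smul_smul])
      exact (mul_inv_eq_iff_eq_mul.1 (inv_mul_eq_one.1 h1).symm).symm
    have hCfix : ∀ a ∈ C, d • (a • b₀) = a • b₀ := by
      intro a ha
      rw [smul_smul, ← Subgroup.mem_centralizer_singleton_iff.1 ha.2, mul_smul, hd2]
    -- they form one orbit of the centraliser of `d`
    set Cd := Subgroup.centralizer ({d} : Set G) with hCd
    have htC : ∀ a ∈ C, t * a * t⁻¹ ∈ Cd := by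
      intro a ha
      refine Subgroup.mem_centralizer_singleton_iff.2 ?_
      have hac : Commute a d := Subgroup.mem_centralizer_singleton_iff.1 ha.2
      have h1 := hac.inv_right.map (MulAut.conj t)
      simp only [MulAut.conj_apply] at h1
      rw [show t * d⁻¹ * t⁻¹ = (t * d * t⁻¹)⁻¹ by group, hdt, inv_inv] at h1
      exact h1
    have horb : MulAction.orbit Cd pt = {y | d • y = y} := by
      apply Set.Subset.antisymm
      · rintro _ ⟨⟨g, hg⟩, rfl⟩
        show d • g • pt = g • pt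
        rw [smul_smul, ← Subgroup.mem_centralizer_singleton_iff.1 hg, mul_smul, hd1]
      · intro y hy
        -- points other than `b₀`
        have key : ∀ z : G ⧸ M, d • z = z → z ≠ b₀ → z ∈ MulAction.orbit Cd pt := by
          intro z hz hzb
          have hz' : d • (t • z) = t • z := by
            rw [smul_smul, show d * t = t * d⁻¹ by rw [← hdt, hti]; rw [← mul_assoc, ← mul_assoc, htt, one_mul],
              mul_smul, inv_smul_eq_iff.2 hz.symm]
          obtain ⟨a, ha, hat⟩ := htrA (t • z) (fun h => hzb (by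
            rw [← htb, ← h, smul_smul, htt, one_smul]))
          have haC := hfixa a ha (by rw [hat]; exact hz')
          refine ⟨⟨_, htC a haC⟩, ?_⟩
          show (t * a * t⁻¹) • pt = z
          rw [hti, mul_smul, mul_smul, htb, hat, smul_smul, htt, one_smul]
        by_cases hyb : y = b₀
        · have hcC : (c : G) ∈ C :=
            ⟨c.2, Subgroup.mem_centralizer_singleton_iff.2 (mul_inv_eq_iff_eq_mul.1 hcd).symm⟩
          obtain ⟨⟨g, hg⟩, hgz⟩ := key ((c : G) • b₀) (hCfix _ hcC)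
            (fun h => hc1' (hfree _ c.2 b₀ hb₀ h))
          refine ⟨⟨(c : G)⁻¹ * g, mul_mem (inv_mem hcC.2) hg⟩, ?_⟩
          show ((c : G)⁻¹ * g) • pt = y
          rw [mul_smul, show g • pt = (c : G) • b₀ from hgz, inv_smul_smul, hyb]
        · exact key y hy hyb
    have hcard : Nat.card (MulAction.orbit Cd pt) = Nat.card C + 1 := by
      rw [horb, ← Finite.card_option (α := C)]
      refine (Nat.card_eq_of_bijective
        (fun o => o.elim (⟨pt, hd1⟩ : {y : G ⧸ M | d • y = y})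
          (fun a => ⟨(a : G) • b₀, hCfix a a.2⟩)) ⟨?_, ?_⟩).symm
      · have hne : ∀ a : C, (a : G) • b₀ ≠ pt := fun a h =>
          hb₀ (MulAction.injective (a : G) (h.trans ((hsmul_pt _).2 (hAM a.2.1)).symm))
        rintro (_ | a) (_ | a') h
        · rfl
        · exact absurd (congrArg Subtype.val h).symm (hne a')
        · exact absurd (congrArg Subtype.val h) (hne a)
        · have h' : (a : G) • b₀ = (a' : G) • b₀ := congrArg Subtype.val h
          have := hE1 ((a' : G)⁻¹ * a) (mul_mem (inv_mem a'.2.1) a.2.1)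
            (by rw [mul_smul, h', inv_smul_smul])
          rw [inv_mul_eq_one] at this
          exact congrArg some (Subtype.ext this.symm)
      · rintro ⟨y, hy⟩
        by_cases hyp : y = pt
        · exact ⟨none, Subtype.ext hyp.symm⟩
        · obtain ⟨a, ha, rfl⟩ := htrA y hyp
          exact ⟨some ⟨a, hfixa a ha hy⟩, rfl⟩
    have hev : Even (Nat.card Cd) := by
      refine even_iff_two_dvd.2 (Dvd.dvd.trans ?_ (MulAction.index_stabilizer Cd pt ▸
        Subgroup.index_dvd_card (MulAction.stabilizer Cd pt)))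
      rw [← Nat.card_coe_set_eq, hcard]
      obtain ⟨i, hi⟩ := hCodd
      omega
    obtain ⟨σ, hσC, hσ⟩ := CfsgLib.Involution.Basic.exists_involution_of_even Cd hev
    have hds : d ∈ P.comp σ := P.mem_of_orderOf (ne_one_of_two hσ) hd1'
      (show Commute σ d from Subgroup.mem_centralizer_singleton_iff.1 hσC)
      (fun h => hq2 (hdo.symm.trans (h.trans hσ)))
    -- `σ` fixes a point, so `d` lies in a conjugate of `A`
    obtain ⟨y, hy⟩ :=
      (CfsgLib.Involution.Basic.isPGroup_zpowers_of_two hσ).nonempty_fixed_point_of_prime_not_dvd_card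
        (G ⧸ M) (by rwa [← Subgroup.index_eq_card])
    have hy' : σ • y = y := hy ⟨σ, Subgroup.mem_zpowers σ⟩
    obtain ⟨g, rfl⟩ := QuotientGroup.mk_surjective y
    have hσA : g⁻¹ * σ * g ∈ A :=
      hinvA _ ((hcf g σ).1 hy') ((CfsgLib.Perm.FrobSystem.orderOf_conj' g σ).trans hσ)
    have hdg : g⁻¹ * d * g ∈ A := by
      have h1 := P.conj_mem g⁻¹ σ d (ne_one_of_two hσ) hds
      rwa [inv_inv, hcompA _ hσA (ne_one_of_two ((CfsgLib.Perm.FrobSystem.orderOf_conj' g σ).trans hσ))] at h1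
    -- but `d` fixes two points
    have hne1 : g⁻¹ * d * g ≠ 1 := fun e => hd1' (by
      rw [show d = g * (g⁻¹ * d * g) * g⁻¹ by group, e, mul_one, mul_inv_cancel])
    have key : ∀ z : G ⧸ M, d • z = z → z = (g : G ⧸ M) := by
      intro z hz
      by_contra hzne
      refine hne1 (hfree _ hdg (g⁻¹ • z) (fun h => hzne ?_) ?_)
      · rw [← smul_inv_smul g z, h, hpt, Quotient.smul_mk, smul_eq_mul, mul_one]
      · rw [mul_smul, mul_smul, smul_inv_smul, hz]
    exact hb₀ ((key b₀ hd2).trans (key pt hd1).symm)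
  refine ⟨M, A, ⟨hAM, hnorm, hfpf, fun g hg u hu hgu => ?_, ?_, hMtop⟩, hA2⟩
  · by_contra hu1
    exact hg (hmemM g u hu hu1 hgu)
  · intro h
    exact hx₀ (Subgroup.mem_bot.1 (h ▸ P.mem x₀ hx₀))

end CfsgLib.Perm.Partition
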