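import Cfsg.Agent.Lib.LocalEvenB.InvariantNilpotent
import Cfsg.Agent.Lib.PGroup.Partition
import Cfsg.Agent.S3946
import Cfsg.Prelude.Def_Solvable

/-!
# Conjugation-invariant partitions of a finite group

`comp x` is the member containing `x ≠ 1`.  When no member is self-normalising every member is
nilpotent.
-/

set_option autoImplicit false
set_option linter.style.haveILetI false

namespace CfsgLib.Perm.Partition

/-- A non-trivial partition invariant under conjugation. -/
structure Part (G : Type*) [Group G] where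
  /-- The member containing an element. -/
  comp : G → Subgroup G
  mem : ∀ x, x ≠ 1 → x ∈ comp x
  eq_of_mem : ∀ x w, x ≠ 1 → w ∈ comp x → w ≠ 1 → comp w = comp x
  conj_mem : ∀ g x y, x ≠ 1 → y ∈ comp x → g * y * g⁻¹ ∈ comp (g * x * g⁻¹)
  ne_top : ∀ x, x ≠ 1 → comp x ≠ ⊤

variable {G : Type*} [Group G]

/-- A partition gives an invariant one. -/
theorem exists_part (S : Set (Subgroup G)) (hS2 : ∃ H ∈ S, ∃ K ∈ S, H ≠ K)
    (hS1 : ∀ H ∈ S, H ≠ ⊥) (hpart : ∀ g : G, g ≠ 1 → ∃! H : Subgroup G, H ∈ S ∧ g ∈ H) :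
    Nonempty (Part G) := by
  classical
  let m : G → Subgroup G := fun x => if h : x = 1 then ⊥ else (hpart x h).choose
  have hm : ∀ x, x ≠ 1 → m x ∈ S ∧ x ∈ m x := fun x hx => by
    simp only [m, dif_neg hx]; exact (hpart x hx).choose_spec.1
  have hu : ∀ x H, x ≠ 1 → H ∈ S → x ∈ H → m x = H := fun x H hx hH hxH => by
    simp only [m, dif_neg hx]; exact ((hpart x hx).choose_spec.2 H ⟨hH, hxH⟩).symm
  let c : G → Subgroup G := fun x =>
    ⨅ g : G, (m (g * x * g⁻¹)).comap (MulAut.conj g).toMonoidHom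
  have hc : ∀ x y, y ∈ c x ↔ ∀ g : G, g * y * g⁻¹ ∈ m (g * x * g⁻¹) := fun x y => by
    simp only [c, Subgroup.mem_iInf]; rfl
  have h1 : ∀ (g x : G), x ≠ 1 → g * x * g⁻¹ ≠ 1 := fun g x hx e => hx (conj_eq_one_iff.mp e)
  refine ⟨⟨c, fun x hx => (hc x x).mpr fun g => (hm _ (h1 g x hx)).2,
    fun x w hx hw hw1 => ?_, fun g x y hx hy => (hc _ _).mpr fun k => ?_, fun x hx e => ?_⟩⟩
  · have he : ∀ g : G, m (g * w * g⁻¹) = m (g * x * g⁻¹) := fun g =>
      hu _ _ (h1 g w hw1) (hm _ (h1 g x hx)).1 ((hc x w).mp hw g)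
    simp only [c, he]
  · have := (hc x y).mp hy (k * g)
    simpa only [mul_inv_rev, mul_assoc] using this
  · have htop : m x = ⊤ := eq_top_iff.mpr fun y _ => by
      have := (hc x y).mp (e ▸ Subgroup.mem_top y) 1
      simpa using this
    obtain ⟨H, hH, K, hK, hne⟩ := hS2
    refine hne ((?_ : H = ⊤).trans (?_ : K = ⊤).symm) <;>
      refine htop ▸ (?_ : _ = m x)
    · obtain ⟨z, hz, hz1⟩ := H.bot_or_exists_ne_one.resolve_left (hS1 H hH)
      rw [← hu z H hz1 hH hz]
      exact hu z (m x) hz1 (hm x hx).1 (htop ▸ Subgroup.mem_top z)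
    · obtain ⟨z, hz, hz1⟩ := K.bot_or_exists_ne_one.resolve_left (hS1 K hK)
      rw [← hu z K hz1 hK hz]
      exact hu z (m x) hz1 (hm x hx).1 (htop ▸ Subgroup.mem_top z)

namespace Part

variable (P : Part G)

/-- No member is self-normalising. -/
def NSN : Prop := ∀ x, x ≠ 1 → ∃ g, g ∉ P.comp x ∧ ∀ u ∈ P.comp x, g * u * g⁻¹ ∈ P.comp x

theorem exists_notMem {x : G} (hx : x ≠ 1) : ∃ g, g ∉ P.comp x := by
  by_contra h
  push Not at h
  exact P.ne_top x hx (eq_top_iff.mpr fun g _ => h g)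

theorem isComp : CfsgLib.PGroup.Partition.IsComp P.comp := ⟨P.mem, P.eq_of_mem⟩

theorem comp_conj {g x : G} (hx : x ≠ 1) :
    P.comp (g * x * g⁻¹) = (P.comp x).map (MulAut.conj g).toMonoidHom := by
  refine le_antisymm ?_ ?_
  · intro y hy
    refine ⟨g⁻¹ * y * g, ?_, show g * (g⁻¹ * y * g) * g⁻¹ = y by group⟩
    have := P.conj_mem g⁻¹ (g * x * g⁻¹) y (fun e => hx (conj_eq_one_iff.mp e)) hy
    simpa only [SetLike.mem_coe, inv_inv, mul_assoc, inv_mul_cancel_left, inv_mul_cancel, mul_one] using this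
  · rintro _ ⟨u, hu, rfl⟩
    exact P.conj_mem g x u hx hu

/-- An element conjugating a non-trivial element of a member into it normalises the member. -/
theorem normalizes {g x u : G} (hx : x ≠ 1) (hu : u ∈ P.comp x) (hu1 : u ≠ 1)
    (h : g * u * g⁻¹ ∈ P.comp x) {y : G} (hy : y ∈ P.comp x) : g * y * g⁻¹ ∈ P.comp x := by
  have h1 : P.comp (g * u * g⁻¹) = P.comp x :=
    P.eq_of_mem x _ hx h fun e => hu1 (conj_eq_one_iff.mp e)
  rw [← h1]
  exact P.conj_mem g u y hu1 (by rw [P.eq_of_mem x u hx hu hu1]; exact hy)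

theorem frobenius_of_not_NSN (h : ¬ P.NSN) : ∃ H : Subgroup G, Cfsg.IsFrobeniusComplement H := by
  simp only [NSN, not_forall] at h
  obtain ⟨x, hx, hne⟩ := h
  push Not at hne
  refine ⟨P.comp x, ?_, P.ne_top x hx, fun g hg => ?_⟩
  · intro e
    exact hx (Subgroup.mem_bot.mp (e ▸ P.mem x hx))
  · refine eq_bot_iff.mpr fun z hz => Subgroup.mem_bot.mpr (by_contra fun hz1 => ?_)
    obtain ⟨w, hw, rfl⟩ := Subgroup.mem_inf.mp hz |>.2
    have hw1 : w ≠ 1 := fun e => hz1 (by subst e; exact map_one _)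
    obtain ⟨u, hu, hgu⟩ := hne g hg
    exact hgu (P.normalizes hx hw hw1 (Subgroup.mem_inf.mp hz).1 hu)

/-- Elements of a member are powers-closed: an element with a power in a member lies in it or the
power is trivial. -/
theorem pow_eq_one {x g : G} (hx : x ≠ 1) {k : ℕ} (hg : g ∉ P.comp x) (hk : g ^ k ∈ P.comp x) :
    g ^ k = 1 := by
  by_contra h
  have hg1 : g ≠ 1 := fun e => hg (e ▸ one_mem _)
  exact hg ((P.eq_of_mem x _ hx hk h).symm.trans
    (P.eq_of_mem g _ hg1 (pow_mem (P.mem g hg1) k) h) ▸ P.mem g hg1)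

variable [Finite G]

theorem prime_orderOf {x y : G} (hx : x ≠ 1) (hy : y ≠ 1) (h : y ∉ P.comp x) (hxy : Commute x y) :
    (orderOf x).Prime ∧ orderOf y = orderOf x := P.isComp.prime_orderOf hx hy h hxy

/-- An element commuting with `x` of an order different from that of `x` lies in its member. -/
theorem mem_of_orderOf {x y : G} (hx : x ≠ 1) (hy : y ≠ 1) (hxy : Commute x y)
    (h : orderOf y ≠ orderOf x) : y ∈ P.comp x :=
  by_contra fun hn => h (P.prime_orderOf hx hy hn hxy).2

/-- A commutator `[w, y]` lies in the member of `x` if `w`, `y` centralise `x` and the order of `y`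
differs from that of `x`. -/
theorem comm_mem {x y w : G} (hx : x ≠ 1) (hy : y ≠ 1) (hxy : Commute x y) (hxw : Commute x w)
    (h : orderOf y ≠ orderOf x) : w * y * w⁻¹ * y⁻¹ ∈ P.comp x := by
  refine mul_mem (P.mem_of_orderOf hx (fun e => hy (conj_eq_one_iff.mp e)) ?_ ?_)
    (inv_mem (P.mem_of_orderOf hx hy hxy h))
  · exact (hxw.mul_right hxy).mul_right hxw.inv_right
  · rwa [← MulAut.conj_apply, MulEquiv.orderOf_eq]

omit [Finite G] in
theorem mul_pow_conj (g u : G) : ∀ n : ℕ,
    (u * g) ^ n = ((List.range n).map fun i => g ^ i * u * (g ^ i)⁻¹).prod * g ^ n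
  | 0 => by simp
  | n + 1 => by
    rw [pow_succ, mul_pow_conj g u n, List.range_succ, List.map_append, List.prod_append, pow_succ]
    simp [mul_assoc]

/-- Every member is nilpotent when none is self-normalising. -/
theorem isNilpotent (hN : P.NSN) {x : G} (hx : x ≠ 1) : Group.IsNilpotent (P.comp x) := by
  classical
  set A := P.comp x with hA
  obtain ⟨g₀, hg₀, hn₀⟩ := hN x hx
  have hex : ∃ k, 0 < k ∧ g₀ ^ k ∈ A :=
    ⟨orderOf g₀, orderOf_pos g₀, by rw [pow_orderOf_eq_one]; exact one_mem A⟩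
  obtain ⟨hk0, hk⟩ := Nat.find_spec hex
  set k := Nat.find hex with hkdef
  have hk1 : k ≠ 1 := fun e => hg₀ (by rw [e, pow_one] at hk; exact hk)
  obtain ⟨p, hp, hpk⟩ := Nat.exists_prime_and_dvd hk1
  set g := g₀ ^ (k / p) with hgdef
  have hgA : g ∉ A := fun hm => by
    have := Nat.find_min hex (Nat.div_lt_self hk0 hp.one_lt)
    exact this ⟨Nat.div_pos (Nat.le_of_dvd hk0 hpk) hp.pos, hm⟩
  have hgp : g ^ p = 1 := P.pow_eq_one hx hgA (by rwa [hgdef, ← pow_mul, Nat.div_mul_cancel hpk])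
  have hn : ∀ i : ℕ, ∀ u ∈ A, g ^ i * u * (g ^ i)⁻¹ ∈ A := by
    intro i u hu
    rw [hgdef, ← pow_mul]
    induction (k / p * i) with
    | zero => simpa using hu
    | succ j ih =>
      have := hn₀ _ ih
      rw [pow_succ', mul_inv_rev]
      simpa only [mul_assoc] using this


  have hsplit : ∀ u ∈ A, ((List.range p).map fun i => g ^ i * u * (g ^ i)⁻¹).prod = 1 := by
    intro u hu
    have hug : u * g ∉ A := fun hm => hgA (by simpa using mul_mem (inv_mem hu) hm)
    have he := mul_pow_conj g u p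
    rw [hgp, mul_one] at he
    rw [← he]
    refine P.pow_eq_one hx hug ?_
    rw [he]
    refine Subgroup.list_prod_mem _ fun y hy => ?_
    obtain ⟨i, -, rfl⟩ := List.mem_map.mp hy
    exact hn i u hu
  by_cases htriv : ∀ u ∈ A, g * u * g⁻¹ = u
  · -- the member has exponent `p`
    haveI : Fact p.Prime := ⟨hp⟩
    refine IsPGroup.isNilpotent (p := p) fun u => ⟨1, Subtype.ext ?_⟩
    rw [pow_one, Subgroup.coe_pow, Subgroup.coe_one]
    have hfix : ∀ i : ℕ, g ^ i * (u : G) * (g ^ i)⁻¹ = u := by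
      intro i
      induction i with
      | zero => simp
      | succ i ih =>
        rw [pow_succ', mul_inv_rev]
        have := htriv u u.2
        calc g * g ^ i * u * ((g ^ i)⁻¹ * g⁻¹) = g * (g ^ i * u * (g ^ i)⁻¹) * g⁻¹ := by group
          _ = u := by rw [ih, this]
    have := hsplit u u.2
    simpa [hfix] using this
  · let α : MulAut A :=
      { toFun := fun u => ⟨g * u * g⁻¹, by simpa using hn 1 u u.2⟩
        invFun := fun u => ⟨g⁻¹ * u * g, by
          have := hn (p - 1) u u.2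
          have e : g ^ (p - 1) = g⁻¹ := eq_inv_of_mul_eq_one_left (by
            rw [← pow_succ, Nat.sub_add_cancel hp.pos, hgp])
          rwa [e, inv_inv] at this⟩
        left_inv := fun u => Subtype.ext (by group)
        right_inv := fun u => Subtype.ext (by group)
        map_mul' := fun u w => Subtype.ext (by simp [mul_assoc]) }
    have hα : ∀ (i : ℕ) (u : A), ((α ^ i) u : G) = g ^ i * u * (g ^ i)⁻¹ := by
      intro i
      induction i with
      | zero => intro u; simp
      | succ i ih =>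
        intro u
        rw [pow_succ', pow_succ', mul_inv_rev, MulAut.mul_apply]
        show g * ((α ^ i) u : G) * g⁻¹ = _
        rw [ih u]; group
    have hord : orderOf α = p := by
      haveI : Fact p.Prime := ⟨hp⟩
      refine orderOf_eq_prime (MulEquiv.ext fun u => Subtype.ext ?_) fun e => htriv fun u hu => ?_
      · rw [hα, hgp]; simp
      · have h1 := hα 1 ⟨u, hu⟩
        rw [pow_one, e, pow_one] at h1
        exact h1.symm
    refine Cfsg.Agent.S3946.result α (hord ▸ hp) fun u => Subtype.ext ?_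
    rw [hord, SubmonoidClass.coe_list_prod, List.map_map, Subgroup.coe_one]
    simpa only [Function.comp_def, hα] using hsplit u u.2

/-- Coprime elements of a member commute. -/
theorem commute_of_coprime (hN : P.NSN) {x u w : G} (hx : x ≠ 1) (hu : u ∈ P.comp x)
    (hw : w ∈ P.comp x) (h : (orderOf u).Coprime (orderOf w)) : Commute u w := by
  haveI := P.isNilpotent hN hx
  exact congrArg Subtype.val (CfsgLib.LocalEvenB.InvariantNilpotent.commute_of_coprime
    (a := (⟨u, hu⟩ : P.comp x)) (b := ⟨w, hw⟩) (by rwa [Subgroup.orderOf_mk, Subgroup.orderOf_mk]))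

end Part

end CfsgLib.Perm.Partition
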