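import Cfsg.Agent.Lib.Characterizations.IIGroup.Extension
import Cfsg.Agent.Lib.Perm.SharpThreeOdd

/-!
Semisimple groups with generalised dihedral involution centralisers whose odd parts are TI.
-/

set_option autoImplicit false

namespace CfsgLib.Perm.Partition

open CfsgLib.Characterizations.IIGroup

/-- A cyclic group has only one element of order two. -/
theorem involution_unique {G : Type*} [Group G] {x a b : G} (hx : 0 < orderOf x)
    (ha : a ∈ Subgroup.zpowers x) (hb : b ∈ Subgroup.zpowers x) (ha2 : orderOf a = 2)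
    (hb2 : orderOf b = 2) : a = b := by
  have key : ∀ c ∈ Subgroup.zpowers x, orderOf c = 2 → c = x ^ (orderOf x / 2) := by
    intro c hc hc2
    obtain ⟨i, rfl⟩ := Subgroup.mem_zpowers_iff.1 hc
    obtain ⟨k, hk, hik⟩ : ∃ k, k < orderOf x ∧ x ^ i = x ^ k := by
      refine ⟨(i % (orderOf x : ℤ)).toNat, ?_, ?_⟩
      · have := Int.emod_lt_of_pos i (b := (orderOf x : ℤ)) (by exact_mod_cast hx)
        omega
      · rw [← zpow_natCast, Int.toNat_of_nonneg (Int.emod_nonneg i (by omega)), zpow_mod_orderOf]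
    rw [hik] at hc2 ⊢
    have hd : orderOf x ∣ 2 * k := orderOf_dvd_of_pow_eq_one (by
      rw [mul_comm, pow_mul, ← hc2, pow_orderOf_eq_one])
    obtain ⟨e, he⟩ := hd
    have he2 : e < 2 := by
      by_contra hlt
      have : orderOf x * 2 ≤ orderOf x * e := Nat.mul_le_mul_left _ (by omega)
      omega
    interval_cases e
    · have hk0 : k = 0 := by omega
      rw [hk0, pow_zero, orderOf_one] at hc2
      omega
    · exact congrArg (x ^ ·) (by omega)
  rw [key a ha ha2, key b hb hb2]

/-- The subgroup `D⟨y⟩` for an involution `y` inverting `D`. -/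
theorem mem_or_mul_mem {G : Type*} [Group G] {D : Subgroup G} {y : G} (hy : y * y = 1)
    (hinv : ∀ x ∈ D, y * x * y⁻¹ = x⁻¹) {c : G} (hc : c ∈ D ⊔ Subgroup.zpowers y) :
    c ∈ D ∨ c * y ∈ D := by
  have hyy : y⁻¹ = y := inv_eq_of_mul_eq_one_right hy
  have hmove : ∀ x ∈ D, y * x * y ∈ D := fun x hx => by
    have := hinv x hx
    rw [hyy] at this
    exact this ▸ D.inv_mem hx
  let K : Subgroup G :=
    { carrier := {c | c ∈ D ∨ c * y ∈ D}
      one_mem' := Or.inl D.one_mem
      mul_mem' := by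
        rintro a b (ha | ha) (hb | hb)
        · exact Or.inl (D.mul_mem ha hb)
        · exact Or.inr (by rw [mul_assoc]; exact D.mul_mem ha hb)
        · refine Or.inr ?_
          have e : a * b * y = (a * y) * (y * b * y) := by
            calc a * b * y = a * (y * y) * b * y := by rw [hy, mul_one]
              _ = _ := by group
          rw [e]
          exact D.mul_mem ha (hmove b hb)
        · refine Or.inl ?_
          have e : a * b = (a * y) * (y * (b * y) * y) := by
            calc a * b = a * (y * y) * b * (y * y) := by rw [hy, mul_one, mul_one]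
              _ = _ := by group
          rw [e]
          exact D.mul_mem ha (hmove _ hb)
      inv_mem' := by
        rintro a (ha | ha)
        · exact Or.inl (D.inv_mem ha)
        · refine Or.inr ?_
          have e : a⁻¹ * y = y * (a * y)⁻¹ * y := by
            rw [mul_inv_rev, hyy]
            calc a⁻¹ * y = (y * y) * a⁻¹ * y := by rw [hy, one_mul]
              _ = _ := by group
          rw [e]
          exact hmove _ (D.inv_mem ha) }
  have hle : D ⊔ Subgroup.zpowers y ≤ K :=
    sup_le (fun x hx => Or.inl hx) (Subgroup.zpowers_le.2 (Or.inr (by rw [hy]; exact D.one_mem)))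
  exact hle hc

/-- Cyclic subgroups of even order have the normalisers of their non-trivial subgroups. -/
theorem ii_of_dihedral {G : Type*} [Group G] [Finite G]
    (hC : ∀ t : G, orderOf t = 2 → ∃ D : Subgroup G, D ≤ Subgroup.centralizer {t} ∧ t ∈ D ∧
      (∀ x ∈ D, ∀ y ∈ D, x * y = y * x) ∧ (∀ x ∈ D, x * x = 1 → x = 1 ∨ x = t) ∧
      ∃ y ∈ Subgroup.centralizer {t}, y ∉ D ∧ y * y = 1 ∧ (∀ x ∈ D, y * x * y⁻¹ = x⁻¹) ∧
        Subgroup.centralizer {t} ≤ D ⊔ Subgroup.zpowers y)
    (hTI : ∀ t y g : G, orderOf t = 2 → y ∈ Subgroup.centralizer {t} → y ≠ 1 → Odd (orderOf y) →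
      g * y * g⁻¹ ∈ Subgroup.centralizer {t} → g ∈ Subgroup.centralizer {t}) : Ii G := by
  intro X hXc hXe Y hYX hY
  obtain ⟨x, hxX⟩ := (Subgroup.isCyclic_iff_exists_zpowers_eq_top X).1 hXc
  subst hxX
  rw [Nat.card_zpowers] at hXe
  obtain ⟨m, hm⟩ := even_iff_two_dvd.1 hXe
  have hx0 : 0 < orderOf x := orderOf_pos x
  set t := x ^ m with ht
  have ht2 : orderOf t = 2 := by
    rw [ht, orderOf_pow' x (by omega : m ≠ 0), hm, Nat.gcd_eq_right (dvd_mul_left m 2),
      Nat.mul_div_cancel _ (by omega : 0 < m)]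
  obtain ⟨D, -, htD, hDc, -, y, -, -, hy2, hinv, hle⟩ := hC t ht2
  have hxC : x ∈ Subgroup.centralizer ({t} : Set G) :=
    Subgroup.mem_centralizer_singleton_iff.2 ((Commute.refl x).pow_right m).eq
  have hxD : x ∈ D := by
    rcases mem_or_mul_mem hy2 hinv (hle hxC) with h | h
    · exact h
    · have hxx : x * x = 1 := by
        have := hinv _ h
        calc x * x = (x * y) * (y * (x * y) * y⁻¹) := by
              rw [show y * (x * y) * y⁻¹ = y * x by group]
              calc x * x = x * (y * y) * x := by rw [hy2, mul_one]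
                _ = _ := by group
          _ = 1 := by rw [this, mul_inv_cancel]
      have hx1 : x ≠ 1 := fun e => by rw [e, orderOf_one] at hm; omega
      have hxt : x = t := involution_unique hx0 (Subgroup.mem_zpowers x)
        (Subgroup.pow_mem _ (Subgroup.mem_zpowers x) m) (orderOf_eq_prime (by rwa [pow_two]) hx1) ht2
      rw [hxt]
      exact htD
  refine le_antisymm (fun g hg => ?_) (fun g hg => ?_)
  · -- a normalised cyclic group has characteristic subgroups
    obtain ⟨⟨z, hz⟩, hzgen⟩ := (Subgroup.isCyclic_iff_exists_zpowers_eq_top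
      (Y.subgroupOf (Subgroup.zpowers x))).1 inferInstance
    have hY' : Y = Subgroup.zpowers z := by
      have := congrArg (Subgroup.map (Subgroup.zpowers x).subtype) hzgen
      rw [MonoidHom.map_zpowers, Subgroup.map_subgroupOf_eq_of_le hYX] at this
      exact this.symm
    rw [hY', mem_normalizer_zpowers]
    obtain ⟨i, hi⟩ := Subgroup.mem_zpowers_iff.1 (mem_normalizer_zpowers.1 hg)
    obtain ⟨j, hj⟩ := Subgroup.mem_zpowers_iff.1 hz
    refine Subgroup.mem_zpowers_iff.2 ⟨i, ?_⟩
    rw [← hj, ← conj_zpow, ← hi, ← zpow_mul, ← zpow_mul, mul_comm]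
  · obtain ⟨z, hzY, hz1⟩ : ∃ z ∈ Y, z ≠ 1 := by
      by_contra h
      push Not at h
      exact hY ((Subgroup.eq_bot_iff_forall Y).2 h)
    have hgt : g ∈ Subgroup.centralizer ({t} : Set G) := by
      by_cases h2 : 2 ∣ orderOf z
      · have hu : orderOf (z ^ (orderOf z / 2)) = 2 := orderOf_pow_orderOf_div (orderOf_pos z).ne' h2
        have hu1 : z ^ (orderOf z / 2) = t := involution_unique hx0 (hYX (Y.pow_mem hzY _))
          (Subgroup.pow_mem _ (Subgroup.mem_zpowers x) m) hu ht2
        have hu2 : g * t * g⁻¹ = t := by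
          rw [← hu1]
          exact involution_unique hx0 (hYX ((Subgroup.mem_normalizer_iff.1 hg _).1 (Y.pow_mem hzY _)))
            (hYX (Y.pow_mem hzY _)) (((MulAut.conj g).orderOf_eq _).trans hu) hu
        exact Subgroup.mem_centralizer_singleton_iff.2 (mul_inv_eq_iff_eq_mul.1 hu2)
      · have hXC : Subgroup.zpowers x ≤ Subgroup.centralizer ({t} : Set G) := Subgroup.zpowers_le.2 hxC
        exact hTI t z g ht2 (hXC (hYX hzY)) hz1 (Nat.not_even_iff_odd.1 fun h => h2 h.two_dvd)
          (hXC (hYX ((Subgroup.mem_normalizer_iff.1 hg z).1 hzY)))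
    rw [mem_normalizer_zpowers]
    rcases mem_or_mul_mem hy2 hinv (hle hgt) with h | h
    · rw [hDc g h x hxD, mul_inv_cancel_right]
      exact Subgroup.mem_zpowers x
    · have e : g * x * g⁻¹ = (g * y) * (y⁻¹ * x * y) * (g * y)⁻¹ := by group
      have hxi : y⁻¹ * x * y = x⁻¹ := by
        have hyy : y⁻¹ = y := inv_eq_of_mul_eq_one_right hy2
        have := hinv x hxD
        rwa [hyy] at this ⊢
      rw [e, hxi, hDc _ h _ (D.inv_mem hxD), mul_inv_cancel_right]
      exact Subgroup.inv_mem _ (Subgroup.mem_zpowers x)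

/-- The dihedral case of the theorem on groups with a partition. -/
theorem psl_or_pgl_of_dihedral {G : Type*} [Group G] [Finite G] [Nontrivial G]
    (hR : ∀ N : Subgroup G, N.Normal → Group.IsSolvable N → N = ⊥)
    (hC : ∀ t : G, orderOf t = 2 → ∃ D : Subgroup G, D ≤ Subgroup.centralizer {t} ∧ t ∈ D ∧
      (∀ x ∈ D, ∀ y ∈ D, x * y = y * x) ∧ (∀ x ∈ D, x * x = 1 → x = 1 ∨ x = t) ∧
      ∃ y ∈ Subgroup.centralizer {t}, y ∉ D ∧ y * y = 1 ∧ (∀ x ∈ D, y * x * y⁻¹ = x⁻¹) ∧
        Subgroup.centralizer {t} ≤ D ⊔ Subgroup.zpowers y)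
    (hTI : ∀ t y g : G, orderOf t = 2 → y ∈ Subgroup.centralizer {t} → y ≠ 1 → Odd (orderOf y) →
      g * y * g⁻¹ ∈ Subgroup.centralizer {t} → g ∈ Subgroup.centralizer {t}) :
    (∃ (F : Type) (_ : Field F) (_ : Fintype F), 4 ≤ Fintype.card F ∧
        Nonempty (G ≃* Matrix.ProjectiveSpecialLinearGroup (Fin 2) F)) ∨
    (∃ (F : Type) (_ : Field F) (_ : Fintype F), 5 ≤ Fintype.card F ∧ Odd (Fintype.card F) ∧
        Nonempty (G ≃* (GL (Fin 2) F ⧸ Subgroup.center (GL (Fin 2) F)))) := by
  classical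
  obtain ⟨F, iF, iFF, h3, he⟩ := CfsgLib.Characterizations.IIGroup.main (ii_of_dihedral hC hTI) hR
  rcases he with he | ⟨⟨e⟩⟩
  · exact Or.inl ⟨F, iF, iFF, h3, he⟩
  rcases Nat.even_or_odd (Fintype.card F) with heven | hodd
  · have : CharP F 2 := by
      obtain ⟨p, hp⟩ := CharP.exists F
      have := Fact.mk (CharP.char_is_prime F p)
      obtain ⟨n, hpr, hn⟩ := FiniteField.card F p
      rw [hn] at heven
      have : p = 2 := (Nat.Prime.even_iff hpr).1 (Nat.even_pow.1 heven).1
      exact this ▸ hp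
    obtain ⟨e'⟩ := CfsgLib.Perm.SharpThreeOdd.psl_equiv_pgl (F := F)
    exact Or.inl ⟨F, iF, iFF, h3, ⟨e.trans e'.symm⟩⟩
  · obtain ⟨r, hr⟩ := hodd
    exact Or.inr ⟨F, iF, iFF, by omega, ⟨r, hr⟩, ⟨e⟩⟩

end CfsgLib.Perm.Partition
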