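import Cfsg.Agent.Lib.Perm.Partition.Pcase
import Cfsg.Agent.Lib.Solvable.Cores
import Cfsg.Agent.Lib.LocalEven.AmalgamS4.Recognition

/-!
# Partitions with an abelian normal subgroup and no normal member

If no member of a partition is normal and the group, not a `p`-group, has a non-trivial abelian normal
subgroup, then it is a Frobenius group or the symmetric group of degree four.
-/

set_option autoImplicit false
set_option linter.style.haveILetI false

namespace CfsgLib.Perm.Partition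

open scoped IsMulCommutative

variable {G : Type*} [Group G]

namespace Part

variable (P : Part G)

/-- A non-trivial normal subgroup is not inside a member when no member is normal. -/
theorem exists_notMem_of_normal (hnn : ∀ x, x ≠ 1 → ¬ (P.comp x).Normal) (M : Subgroup G) [M.Normal]
    (hM : M ≠ ⊥) {x : G} (hx : x ≠ 1) : ∃ z ∈ M, z ≠ 1 ∧ z ∉ P.comp x := by
  by_contra h
  push Not at h
  obtain ⟨z, hz, hz1⟩ := M.bot_or_exists_ne_one.resolve_left hM
  exact hnn x hx ⟨fun y hy g => P.normalizes hx (h z hz hz1) hz1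
    (h _ (‹M.Normal›.conj_mem z hz g) fun e => hz1 (conj_eq_one_iff.mp e)) hy⟩

variable [Finite G]

/-- An element of order prime to `p` commuting with a `p`-element `x ≠ 1` commutes with each element
of exponent `p` of a normal subgroup that commutes with `x`. -/
theorem commute_of_commute (hN : P.NSN) {p : ℕ} (hp : p.Prime) {Z : Subgroup G} [Z.Normal]
    (hZp : ∀ z ∈ Z, z ^ p = 1) {x y v : G} (hx : x ≠ 1) {k : ℕ} (hxk : x ^ p ^ k = 1) (hy : y ≠ 1)
    (hyp : ¬ p ∣ orderOf y) (hxy : Commute x y) (hv : v ∈ Z) (hxv : Commute x v) : Commute y v := by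
  have hord : orderOf y ≠ orderOf x := fun e => by
    obtain ⟨j, -, hj⟩ := (Nat.dvd_prime_pow hp).mp (orderOf_dvd_of_pow_eq_one hxk)
    rcases j with _ | j
    · exact hx (orderOf_eq_one_iff.mp (hj.trans (pow_zero p)))
    · exact hyp (e ▸ hj ▸ dvd_pow_self p j.succ_ne_zero)
  have hyB := P.mem_of_orderOf hx hy hxy hord
  have haB := P.comm_mem hx hy hxy hxv hord
  set a := v * y * v⁻¹ * y⁻¹ with hadef
  have haZ : a ∈ Z := by
    rw [hadef, show v * y * v⁻¹ * y⁻¹ = v * (y * v⁻¹ * y⁻¹) by group]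
    exact mul_mem hv (‹Z.Normal›.conj_mem _ (inv_mem hv) y)
  have hap : orderOf a ∣ p := orderOf_dvd_of_pow_eq_one (hZp a haZ)
  have hay : Commute a y := P.commute_of_coprime hN hx haB hyB
    (Nat.Coprime.coprime_dvd_left hap (hp.coprime_iff_not_dvd.mpr hyp))
  have hstep : ∀ i : ℕ, y ^ i * v * (y ^ i)⁻¹ = a⁻¹ ^ i * v := by
    intro i
    induction i with
    | zero => simp
    | succ i ih =>
      have h1 : y * v * y⁻¹ = a⁻¹ * v := by rw [hadef]; group
      calc y ^ (i + 1) * v * (y ^ (i + 1))⁻¹ = y * (y ^ i * v * (y ^ i)⁻¹) * y⁻¹ := by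
            rw [pow_succ']; group
        _ = (y * a⁻¹ ^ i) * v * y⁻¹ := by rw [ih]; group
        _ = a⁻¹ ^ i * (y * v * y⁻¹) := by rw [((hay.inv_left.pow_left i).symm).eq]; group
        _ = a⁻¹ ^ (i + 1) * v := by rw [h1, pow_succ]; group
  have h2 := hstep (orderOf y)
  rw [pow_orderOf_eq_one, one_mul, inv_one, mul_one] at h2
  have h3 : orderOf a ∣ orderOf y := orderOf_dvd_of_pow_eq_one (by
    have h4 := mul_eq_right.mp h2.symm
    rwa [inv_pow, inv_eq_one] at h4)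
  have h5 : a = 1 := orderOf_eq_one_iff.mp (Nat.dvd_one.mp (by
    have := Nat.dvd_gcd hap h3
    rwa [Nat.Coprime.gcd_eq_one (hp.coprime_iff_not_dvd.mpr hyp)] at this))
  exact (mul_inv_eq_iff_eq_mul.mp (mul_inv_eq_one.mp h5)).symm

/-- An element of order prime to `p` fixes no non-trivial element of the centre of the `p`-core. -/
theorem eq_one_of_commute (hN : P.NSN) (hnn : ∀ x, x ≠ 1 → ¬ (P.comp x).Normal) {p : ℕ} (hp : p.Prime)
    {Z : Subgroup G} [Z.Normal] (hZ1 : Z ≠ ⊥) (hZp : ∀ z ∈ Z, z ^ p = 1)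
    (hZc : ∀ z ∈ Z, ∀ w ∈ Z, Commute z w) {y : G} (hy : y ≠ 1) (hyp : ¬ p ∣ orderOf y) :
    ∀ z ∈ Z, Commute y z → z = 1 := by
  intro z hz hc
  by_contra hz1
  obtain ⟨w, hw, hw1, hwy⟩ := P.exists_notMem_of_normal hnn Z hZ1 hy
  have hyw : Commute y w := P.commute_of_commute hN hp hZp hz1
    (k := 1) (by rw [pow_one]; exact hZp z hz) hy hyp hc.symm hw (hZc z hz w hw)
  haveI : Fact p.Prime := ⟨hp⟩
  refine hwy (P.mem_of_orderOf hy hw1 hyw fun e => hyp ?_)
  rw [← e, orderOf_eq_prime (hZp w hw) hw1]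

/-- The elements `v` with `(v * h) ^ p ≠ 1` differ by elements of a single member. -/
theorem mul_inv_mem_comp {p : ℕ} {Z : Subgroup G} {P0 : Subgroup G}
    (hP0p : ∀ x ∈ P0, x ^ p = 1) (hZc : ∀ z ∈ Z, ∀ x ∈ P0, Commute x z) (hp : p.Prime)
    {h v w : G} (hvP : (v * h) ^ p ∈ P0) (hv : v ∈ Z) (hw : w ∈ Z)
    (hv1 : (v * h) ^ p ≠ 1) (hw1 : (w * h) ^ p ≠ 1) : w * v⁻¹ ∈ P.comp (v * h) := by
  have hvh : v * h ≠ 1 := fun e => hv1 (by rw [e, one_pow])
  have hmem := pow_mem (P.mem _ hvh) p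
  have hcomp : P.comp ((v * h) ^ p) = P.comp (v * h) := P.eq_of_mem _ _ hvh hmem hv1
  haveI : Fact p.Prime := ⟨hp⟩
  have hco : orderOf ((v * h) ^ p) = p := orderOf_eq_prime (hP0p _ hvP) hv1
  have hch : Commute ((v * h) ^ p) (w * h) := by
    have h1 : Commute ((v * h) ^ p) (v * h) := Commute.pow_self _ p
    have h2 : Commute ((v * h) ^ p) (w * v⁻¹) :=
      hZc _ (mul_mem hw (inv_mem hv)) _ hvP
    have := h2.mul_right h1
    rwa [show w * v⁻¹ * (v * h) = w * h by group] at this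
  have hwB : w * h ∈ P.comp (v * h) := hcomp ▸ P.mem_of_orderOf hv1
    (fun e => hw1 (by rw [e, one_pow])) hch fun e => hw1 (by
      rw [← hco, ← e]; exact pow_orderOf_eq_one _)
  have := mul_mem hwB (inv_mem (P.mem _ hvh))
  rwa [show w * h * (v * h)⁻¹ = w * v⁻¹ by group] at this

end Part

/-- A proper subgroup of a `p`-group. -/
theorem mul_card_le {p : ℕ} [Fact p.Prime] {U Z : Subgroup G} [Finite G] (hZ : IsPGroup p Z) (hle : U ≤ Z)
    (hne : U ≠ Z) : p * Nat.card U ≤ Nat.card Z := by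
  obtain ⟨b, hb⟩ := IsPGroup.iff_card.mp hZ
  obtain ⟨a, ha⟩ := IsPGroup.iff_card.mp (hZ.to_le hle)
  rw [ha, hb, ← pow_succ']
  refine Nat.pow_le_pow_right (Fact.out : p.Prime).pos ?_
  by_contra hlt
  push Not at hlt
  refine hne (Subgroup.eq_of_le_of_card_ge hle ?_)
  rw [ha, hb]
  exact Nat.pow_le_pow_right (Fact.out : p.Prime).pos (Nat.lt_succ_iff.mp hlt)

/-- A `2`-group of exponent two with an involution fixing a hyperplane and odd elements acting without
fixed points has order four and gives `S₄`. -/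
theorem perm_four_of_hyperplane [Finite G] (Z : Subgroup G) [Z.Normal] (hZ1 : Z ≠ ⊥)
    (hZ2 : ∀ z ∈ Z, z ^ 2 = 1) (hmax : ∀ M : Subgroup G, M.Normal → IsPGroup 2 M → M ≤ Z)
    (hfix : ∀ y : G, y ≠ 1 → ¬ 2 ∣ orderOf y → ∀ z ∈ Z, Commute y z → z = 1)
    {h : G} (hh : h ∉ Z) (hh2 : h ^ 2 ∈ Z) (K : Subgroup G) (hK : ∀ v, v ∈ K ↔ v ∈ Z ∧ Commute h v)
    (hKne : K ≠ Z) (hcard : Nat.card Z ≤ 2 * Nat.card K) :
    Nonempty (G ≃* Equiv.Perm (Fin 4)) := by
  classical
  haveI : Fact (Nat.Prime 2) := ⟨Nat.prime_two⟩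
  have hinv : ∀ z ∈ Z, z⁻¹ = z := fun z hz => inv_eq_of_mul_eq_one_right (by rw [← pow_two]; exact hZ2 z hz)
  have hcomm : ∀ z ∈ Z, ∀ w ∈ Z, Commute z w := fun z hz w hw => by
    show z * w = w * z
    rw [← hinv _ (mul_mem hz hw), mul_inv_rev, hinv z hz, hinv w hw]
  have hZP : IsPGroup 2 Z := fun z => ⟨1, Subtype.ext (by rw [pow_one, Subgroup.coe_pow]; exact hZ2 z z.2)⟩
  have hKle : K ≤ Z := fun v hv => ((hK v).mp hv).1
  have h2K : 2 * Nat.card K = Nat.card Z := le_antisymm (mul_card_le hZP hKle hKne) hcard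
  -- an odd element inverted by `h`
  have hhQ : orderOf (h : G ⧸ Z) = 2 := orderOf_eq_prime
    (by rw [← QuotientGroup.mk_pow, QuotientGroup.eq_one_iff]; exact hh2)
    (fun e => hh ((QuotientGroup.eq_one_iff h).mp e))
  obtain ⟨x, hx1, hxo, hxinv⟩ := CfsgLib.Involution.BaerSuzuki.exists_inverted_odd (h : G ⧸ Z) hhQ
    fun M hM hM2 hm => by
      have hle : M.comap (QuotientGroup.mk' Z) ≤ Z := by
        refine hmax _ inferInstance (hM2.comap_of_ker_isPGroup _ ?_)
        rw [QuotientGroup.ker_mk']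
        exact hZP
      exact hh (hle hm)
  obtain ⟨g, rfl, hg⟩ := exists_lift Nat.prime_two Z hxo.not_two_dvd_nat
  have hg1 : g ≠ 1 := fun e => hx1 (by rw [e]; rfl)
  have hg2 : g * g ≠ 1 := fun e => hg (by
    rw [orderOf_eq_prime (show g ^ 2 = 1 by rw [pow_two]; exact e) hg1])
  have hg2' : ¬ 2 ∣ orderOf (g * g) := fun hd => hg (hd.trans (by
    rw [← pow_two]; exact orderOf_pow_dvd 2))
  -- the two hyperplanes meet trivially
  set K' := K.map (MulAut.conj g).toMonoidHom with hK'def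
  have hdis : Disjoint K K' := by
    rw [disjoint_iff, eq_bot_iff]
    rintro u ⟨huK, w, hw, rfl⟩
    obtain ⟨hwZ, hwh⟩ := (hK w).mp hw
    obtain ⟨huZ, huh⟩ := (hK _).mp huK
    set u := (MulAut.conj g).toMonoidHom w with hu
    have hj : Commute (g * h * g⁻¹) u := hwh.map (MulAut.conj g).toMonoidHom
    have hq : (g * g) * (h * (g * h * g⁻¹)) ∈ Z := by
      rw [← QuotientGroup.eq_one_iff]
      have h2 : ((h : G ⧸ Z))⁻¹ = (h : G ⧸ Z) := inv_eq_of_mul_eq_one_right (by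
        rw [← pow_two, ← hhQ, pow_orderOf_eq_one])
      rw [h2] at hxinv
      simp only [QuotientGroup.mk_mul, QuotientGroup.mk_inv]
      rw [show (g : G ⧸ Z) * g * (h * (g * h * (g : G ⧸ Z)⁻¹)) =
          (g : G ⧸ Z) * g * ((h * g * h) * (g : G ⧸ Z)⁻¹) by simp only [mul_assoc], hxinv]
      group
    have hgu : Commute (g * g) u := by
      have h1 : Commute ((g * g) * (h * (g * h * g⁻¹))) u := hcomm _ hq _ huZ
      have := h1.mul_left (huh.mul_left hj).inv_left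
      rwa [mul_inv_cancel_right] at this
    exact Subgroup.mem_bot.mpr (hfix _ hg2 hg2' u huZ hgu)
  have hK'le : K' ≤ Z := by
    rintro _ ⟨w, hw, rfl⟩
    exact ‹Z.Normal›.conj_mem w (hKle hw) g
  have hKK : Nat.card K * Nat.card K ≤ Nat.card Z := by
    have hinj := Subgroup.mul_injective_of_disjoint hdis
    have h1 := Nat.card_le_card_of_injective
      (fun a : K × K' => (⟨(a.1 : G) * a.2, mul_mem (hKle a.1.2) (hK'le a.2.2)⟩ : Z))
      fun a b e => hinj (congrArg Subtype.val e :)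
    rwa [Nat.card_prod, hK'def, Subgroup.card_map_of_injective
      (f := (MulAut.conj g).toMonoidHom) (MulAut.conj g).injective] at h1
  have hK2 : Nat.card K ≠ 1 := fun e => by
    rw [e, mul_one] at h2K
    obtain ⟨z, hz, hz1⟩ := Z.bot_or_exists_ne_one.resolve_left hZ1
    haveI : Fintype Z := Fintype.ofFinite Z
    have hc : ∀ (k : G), ∀ w ∈ Z, w ≠ 1 → k * w * k⁻¹ = z := fun k w hw hw1 => by
      have h3 : Fintype.card Z = 2 := by rw [← Nat.card_eq_fintype_card]; omega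
      by_contra hne
      have h4 : ({⟨1, one_mem _⟩, ⟨z, hz⟩, ⟨k * w * k⁻¹, ‹Z.Normal›.conj_mem w hw k⟩} : Finset Z).card = 3 :=
        Finset.card_eq_three.mpr ⟨_, _, _, fun e => hz1 (congrArg Subtype.val e).symm,
          fun e => hw1 (conj_eq_one_iff.mp (congrArg Subtype.val e).symm),
          fun e => hne (congrArg Subtype.val e).symm, rfl⟩
      have := Finset.card_le_univ ({⟨1, one_mem _⟩, ⟨z, hz⟩, ⟨k * w * k⁻¹, ‹Z.Normal›.conj_mem w hw k⟩} : Finset Z)
      omega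
    exact hz1 (hfix g hg1 hg z hz (mul_inv_eq_iff_eq_mul.mp (hc g z hz hz1)))
  have hK0 : 0 < Nat.card K := Nat.card_pos
  have hZ4 : Nat.card Z = 4 := by
    rw [← h2K] at hKK ⊢
    have := Nat.le_of_mul_le_mul_right hKK hK0
    omega
  -- the centraliser of `Z`
  have hC : Subgroup.centralizer (Z : Set G) ≤ Z := hmax _ inferInstance fun c => by
    obtain ⟨a, m, hm, ho⟩ := Nat.exists_eq_pow_mul_and_not_dvd (orderOf_pos (c : G)).ne' 2 (by norm_num)
    refine ⟨a, Subtype.ext ?_⟩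
    rw [Subgroup.coe_pow, Subgroup.coe_one]
    by_contra hne
    obtain ⟨z, hz, hz1⟩ := Z.bot_or_exists_ne_one.resolve_left hZ1
    refine hz1 (hfix _ hne (fun hd => hm (hd.trans ?_)) z hz ?_)
    · rw [orderOf_dvd_iff_pow_eq_one, ← pow_mul, ← ho, pow_orderOf_eq_one]
    · exact Commute.pow_left (show Commute (c : G) z from (Subgroup.mem_centralizer_iff.mp c.2 z hz).symm) _
  -- the action on the three involutions
  letI : MulAction G {v : Z // v ≠ 1} :=
    { smul := fun k v => ⟨MulAut.conjNormal k v.1, fun e =>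
        v.2 ((MulEquiv.map_eq_one_iff _).mp e)⟩
      one_smul := fun v => Subtype.ext (show MulAut.conjNormal (1 : G) v.1 = v.1 by
        rw [map_one]; rfl)
      mul_smul := fun k l v => Subtype.ext (show MulAut.conjNormal (k * l) v.1 =
          MulAut.conjNormal k (MulAut.conjNormal l v.1) by rw [map_mul]; rfl) }
  let φ := MulAction.toPermHom G {v : Z // v ≠ 1}
  have hker : φ.ker ≤ Z := fun k hk => hC (Subgroup.mem_centralizer_iff.mpr fun z hz => by
    by_cases hz1 : z = 1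
    · rw [hz1, one_mul, mul_one]
    · have := congrArg (fun e : Equiv.Perm {v : Z // v ≠ 1} => ((e ⟨⟨z, hz⟩, fun e' => hz1 (congrArg Subtype.val e')⟩).1 : G))
        (MonoidHom.mem_ker.mp hk)
      have h' : k * z * k⁻¹ = z := (MulAut.conjNormal_apply k ⟨z, hz⟩).symm.trans this
      exact (mul_inv_eq_iff_eq_mul.mp h').symm)
  have hidx : Z.index ∣ 6 := by
    refine (Subgroup.index_dvd_of_le hker).trans ?_
    rw [Subgroup.index_ker]
    refine (Subgroup.card_subgroup_dvd_card φ.range).trans ?_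
    have h3 : Nat.card {v : Z // v ≠ 1} = 3 := by
      letI := Fintype.ofFinite Z
      rw [Nat.card_eq_fintype_card, Fintype.card_subtype_compl, Fintype.card_subtype_eq, ← Nat.card_eq_fintype_card, hZ4]
    letI := Fintype.ofFinite {v : Z // v ≠ 1}
    rw [Nat.card_perm, h3]
    rfl
  have hd2 : 2 ∣ Z.index := by rw [Subgroup.index_eq_card, ← hhQ]; exact orderOf_dvd_natCard _
  have hd3 : 3 ∣ Z.index := by
    have h1 : orderOf (g : G ⧸ Z) ∣ Z.index := by rw [Subgroup.index_eq_card]; exact orderOf_dvd_natCard _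
    have h2 := h1.trans hidx
    have h3 : orderOf (g : G ⧸ Z) ≠ 1 := fun e => hx1 (orderOf_eq_one_iff.mp e)
    have h4 := hxo.not_two_dvd_nat
    have h5 := Nat.le_of_dvd (by norm_num) h2
    interval_cases hh : orderOf (g : G ⧸ Z) <;> first | exact h1 | omega
  have h6 : Z.index = 6 := Nat.dvd_antisymm hidx
    (Nat.Coprime.mul_dvd_of_dvd_of_dvd (by norm_num) hd2 hd3)
  refine CfsgLib.LocalEven.AmalgamS4.Recognition.mulEquiv_perm_four ?_ Z hZ4 hC fun z hz hc => ?_
  · rw [← Z.card_mul_index, hZ4, h6]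
  · exact hfix g hg1 hg z hz (hc g)

namespace Part

variable (P : Part G) [Finite G]

/-- No member is normal and there is a non-trivial abelian normal subgroup. -/
theorem no_normal_case (hN : P.NSN) (hnn : ∀ x, x ≠ 1 → ¬ (P.comp x).Normal) (N : Subgroup G) [N.Normal]
    (hN1 : N ≠ ⊥) (hNc : ∀ u ∈ N, ∀ w ∈ N, Commute u w) (hnp : ∀ p, p.Prime → ¬ IsPGroup p G) :
    (∃ H : Subgroup G, Cfsg.IsFrobeniusComplement H) ∨ Nonempty (G ≃* Equiv.Perm (Fin 4)) := by
  classical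
  -- `N` has prime exponent
  obtain ⟨z₀, hz₀, hz₀1⟩ := N.bot_or_exists_ne_one.resolve_left hN1
  have hprime : ∀ z ∈ N, z ≠ 1 → (orderOf z).Prime := fun z hz hz1 => by
    obtain ⟨u, hu, hu1, hun⟩ := P.exists_notMem_of_normal hnn N hN1 hz1
    exact (P.prime_orderOf hz1 hu1 hun (hNc z hz u hu)).1
  set p := orderOf z₀ with hpdef
  have hp : p.Prime := hprime z₀ hz₀ hz₀1
  haveI : Fact p.Prime := ⟨hp⟩
  have hNp : IsPGroup p N := fun z => ⟨1, Subtype.ext (by
    rw [pow_one, Subgroup.coe_pow, Subgroup.coe_one]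
    by_cases hz : (z : G) = 1
    · rw [hz, one_pow]
    suffices h : orderOf (z : G) = p by rw [← h]; exact pow_orderOf_eq_one _
    by_contra hne
    have hq := hprime z z.2 hz
    have hco : (orderOf (z : G)).Coprime p := (Nat.coprime_primes hq hp).mpr hne
    have ho := (hNc z z.2 z₀ hz₀).orderOf_mul_eq_mul_orderOf_of_coprime hco
    have hm : (z : G) * z₀ ≠ 1 := fun e => by
      rw [e, orderOf_one] at ho
      exact hq.ne_one (Nat.eq_one_of_mul_eq_one_right ho.symm)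
    have := hprime _ (mul_mem z.2 hz₀) hm
    rw [ho] at this
    exact Nat.not_prime_mul hq.ne_one hp.ne_one this)⟩
  set P0 := Cfsg.pCore p G with hP0def
  haveI : P0.Normal := CfsgLib.Solvable.Cores.pCore_normal p
  have hP0 : IsPGroup p P0 := CfsgLib.Solvable.Cores.isPGroup_pCore p
  have hNP : N ≤ P0 := CfsgLib.Solvable.Cores.le_pCore hNp
  have hmax : ∀ M : Subgroup G, M.Normal → IsPGroup p M → M ≤ P0 := fun M hM h => by
    haveI := hM
    exact CfsgLib.Solvable.Cores.le_pCore h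
  have hnt : P0 ≠ ⊤ := fun e => hnp p hp (hP0.of_equiv ((MulEquiv.subgroupCongr e).trans Subgroup.topEquiv))
  set Z := P0 ⊓ Subgroup.centralizer (P0 : Set G) with hZdef
  have hZP : Z ≤ P0 := inf_le_left
  have hZc : ∀ z ∈ Z, ∀ x ∈ P0, Commute x z := fun z hz x hx => Subgroup.mem_centralizer_iff.mp hz.2 x hx
  have hZ1 : Z ≠ ⊥ := by
    haveI : Nontrivial P0 := (Subgroup.nontrivial_iff_ne_bot P0).mpr fun e => hz₀1 (Subgroup.mem_bot.mp (e ▸ hNP hz₀))
    haveI := hP0.center_nontrivial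
    obtain ⟨⟨c, hc⟩, hc1⟩ := exists_ne (1 : Subgroup.center P0)
    refine fun e => hc1 (Subtype.ext (Subtype.ext (Subgroup.mem_bot.mp (e ▸ (?_ : (c : G) ∈ Z)))))
    exact ⟨c.2, Subgroup.mem_centralizer_iff.mpr fun x hx =>
      congrArg Subtype.val (Subgroup.mem_center_iff.mp hc ⟨x, hx⟩)⟩
  have hexp : ∀ x ∈ P0, x ^ p = 1 := fun x hx => by
    by_cases hx1 : x = 1
    · rw [hx1, one_pow]
    obtain ⟨z, hz, hz1, hzx⟩ := P.exists_notMem_of_normal hnn Z hZ1 hx1
    have hq := (P.prime_orderOf hx1 hz1 hzx (hZc z hz x hx)).1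
    obtain ⟨k, hk⟩ := hP0 ⟨x, hx⟩
    have hk' : x ^ p ^ k = 1 := congrArg Subtype.val hk
    have := (Nat.prime_dvd_prime_iff_eq hq hp).mp (hq.dvd_of_dvd_pow (orderOf_dvd_of_pow_eq_one hk'))
    rw [← this, pow_orderOf_eq_one]
  have hZp : ∀ z ∈ Z, z ^ p = 1 := fun z hz => hexp z (hZP hz)
  have hfix : ∀ y : G, y ≠ 1 → ¬ p ∣ orderOf y → ∀ z ∈ Z, Commute y z → z = 1 := fun y hy hyp =>
    P.eq_one_of_commute hN hnn hp hZ1 hZp (fun z hz w hw => hZc w hw z (hZP hz)) hy hyp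
  have hfixP : ∀ y : G, y ≠ 1 → ¬ p ∣ orderOf y → ∀ x ∈ P0, Commute y x → x = 1 := fun y hy hyp x hx hc => by
    by_contra hx1
    obtain ⟨v, hv, hv1⟩ := Z.bot_or_exists_ne_one.resolve_left hZ1
    exact hv1 (hfix y hy hyp v hv (P.commute_of_commute hN hp hZp hx1 (k := 1)
      (by rw [pow_one]; exact hexp x hx) hy hyp hc.symm hv (hZc v hv x hx)))
  have hpq : ∀ h y : G, h ∉ P0 → h ^ p ∈ P0 → (∃ k, h ^ p ^ k = 1) → y ≠ 1 → ¬ p ∣ orderOf y →
      ¬ Commute h y := by
    rintro h y hh - ⟨k, hk⟩ hy hyp hc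
    have hpZ : p ∣ Nat.card Z := by
      obtain ⟨v, hv, hv1⟩ := Z.bot_or_exists_ne_one.resolve_left hZ1
      have := Subgroup.orderOf_dvd_natCard Z hv
      rwa [orderOf_eq_prime (hZp v hv) hv1] at this
    obtain ⟨w, hw, hw1, hwc⟩ := exists_fixed hk Z (fun u hu => (inferInstance : Z.Normal).conj_mem u hu h) hpZ
    exact hw1 (hfix y hy hyp w hw
      (P.commute_of_commute hN hp hZp (fun e => hh (by rw [e]; exact one_mem P0)) hk hy hyp hc hw hwc))
  rcases frobenius_or_norm hp P0 hP0 hmax hnt Z hZP hZ1 hZp hZc hfix hfixP hpq with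
    hF | ⟨h, hh, hhp, -, v₀, hv₀, hne⟩
  · exact Or.inl hF
  refine Or.inr ?_
  haveI : IsMulCommutative Z := ⟨⟨fun u w => Subtype.ext (hZc w w.2 u (hZP u.2)).eq⟩⟩
  obtain ⟨ρ, hρ⟩ := exists_action P0 Z fun x hx z hz => hZc z hz x hx
  let Nm : Z →* Z :=
    { toFun := norm ρ p (h : G ⧸ P0)
      map_one' := by simp [norm]
      map_mul' := fun u w => by simp [norm, map_mul, Finset.prod_mul_distrib] }
  have hNm : ∀ v : Z, ((Nm v : Z) : G) = ((v : G) * h) ^ p * (h ^ p)⁻¹ := fun v => coe_norm ρ hρ h v p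
  have hmemP : ∀ v ∈ Z, (v * h) ^ p ∈ P0 := fun v hv => by
    rw [← QuotientGroup.eq_one_iff, QuotientGroup.mk_pow, QuotientGroup.mk_mul,
      (QuotientGroup.eq_one_iff v).mpr (hZP hv), one_mul, ← QuotientGroup.mk_pow, QuotientGroup.eq_one_iff]
    exact hhp
  have hZG : IsPGroup p Z := hP0.to_le hZP
  -- some `v₁` has `(v₁ * h) ^ p ≠ 1`
  obtain ⟨v₁, hv₁, hv₁1⟩ : ∃ v₁ ∈ Z, (v₁ * h) ^ p ≠ 1 := by
    by_cases h0 : h ^ p = 1
    · exact ⟨v₀, hv₀, h0 ▸ hne⟩
    · exact ⟨1, one_mem Z, by rwa [one_mul]⟩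
  set U := P.comp (v₁ * h) ⊓ Z with hUdef
  have hUne : U ≠ Z := fun e => by
    obtain ⟨z, hz, -, hzn⟩ := P.exists_notMem_of_normal hnn Z hZ1 (x := v₁ * h)
      (fun e' => hv₁1 (by rw [e', one_pow]))
    exact hzn (e.ge hz).1
  set K := Nm.ker.map Z.subtype with hKdef
  have hKne : K ≠ Z := fun e => by
    obtain ⟨⟨w, hwZ⟩, hw, rfl⟩ := e.ge hv₀
    have := hNm ⟨w, hwZ⟩
    rw [MonoidHom.mem_ker.mp hw] at this
    exact hne (mul_inv_eq_one.mp this.symm)
  have hUle : p * Nat.card U ≤ Nat.card Z := mul_card_le hZG inf_le_right hUne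
  have hKle : p * Nat.card K ≤ Nat.card Z := mul_card_le hZG (Subgroup.map_subtype_le _) hKne
  -- counting
  let T : Set Z := {v | ((v : G) * h) ^ p ≠ 1}
  have hT : Nat.card T ≤ Nat.card U := by
    refine Nat.card_le_card_of_injective (fun v : T => (⟨((v : Z) : G) * v₁⁻¹,
      P.mul_inv_mem_comp hexp hZc hp (hmemP _ hv₁) hv₁ v.1.2 hv₁1 v.2, Z.mul_mem v.1.2 (Z.inv_mem hv₁)⟩ : U)) ?_
    intro a b e
    exact Subtype.ext (Subtype.ext (mul_right_cancel (congrArg Subtype.val e :)))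
  have hTc : Nat.card (Tᶜ : Set Z) ≤ if (Tᶜ : Set Z).Nonempty then Nat.card K else 0 := by
    split_ifs with hne'
    · obtain ⟨u, hu⟩ := hne'
      refine Nat.card_le_card_of_injective (fun v : (Tᶜ : Set Z) => (⟨(((v : Z) * u⁻¹ : Z) : G),
        _, (?_ : (v : Z) * u⁻¹ ∈ Nm.ker), rfl⟩ : K)) ?_
      · have hv : (((v : Z) : G) * h) ^ p = 1 := not_not.mp v.2
        have hu' : ((u : G) * h) ^ p = 1 := not_not.mp hu
        rw [MonoidHom.mem_ker, map_mul, map_inv, mul_inv_eq_one]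
        refine Subtype.ext ?_
        rw [hNm, hNm, hv, hu']
      · intro a b e
        exact Subtype.ext (mul_right_cancel (Subtype.ext (congrArg Subtype.val e :) : (a : Z) * u⁻¹ = (b : Z) * u⁻¹))
    · rw [Set.not_nonempty_iff_eq_empty.mp hne']
      simp
  have hsum : Nat.card Z = Nat.card T + Nat.card (Tᶜ : Set Z) := by
    rw [← Nat.card_sum]; exact (Nat.card_congr (Equiv.Set.sumCompl T)).symm
  have hpos : 0 < Nat.card Z := Nat.card_pos
  have hp2 : p = 2 ∧ Nat.card Z ≤ 2 * Nat.card K := by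
    have h2 := hp.two_le
    have hU2 : 2 * Nat.card U ≤ Nat.card Z := (Nat.mul_le_mul_right _ h2).trans hUle
    have hle : Nat.card Z ≤ Nat.card U + Nat.card K := by
      split_ifs at hTc <;> omega
    refine ⟨?_, by omega⟩
    by_contra h3
    have h3' : 3 ≤ p := by omega
    have := (Nat.mul_le_mul_right (Nat.card U) h3').trans hUle
    have := (Nat.mul_le_mul_right (Nat.card K) h3').trans hKle
    omega
  obtain ⟨hp2, hKcard⟩ := hp2
  have hP0Z : P0 = Z := le_antisymm (fun x hx => ⟨hx, Subgroup.mem_centralizer_iff.mpr fun y hy => by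
    have hinv : ∀ w ∈ P0, w⁻¹ = w := fun w hw => inv_eq_of_mul_eq_one_right (by
      rw [← pow_two, ← hp2]; exact hexp w hw)
    have hxy := hinv _ (P0.mul_mem hy hx)
    rw [mul_inv_rev, hinv y hy, hinv x hx] at hxy
    exact hxy.symm⟩) hZP
  refine perm_four_of_hyperplane Z hZ1 (hp2 ▸ hZp) (fun M hM hM2 => hP0Z ▸ hmax M hM (hp2.symm ▸ hM2))
    (hp2 ▸ hfix) (hP0Z ▸ hh) (hP0Z ▸ hp2 ▸ hhp) K (fun v => ?_) hKne hKcard
  constructor
  · rintro ⟨⟨w, hwZ⟩, hw, rfl⟩
    refine ⟨hwZ, ?_⟩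
    have := hNm ⟨w, hwZ⟩
    rw [MonoidHom.mem_ker.mp hw, hp2] at this
    have h1 : w * (h * w * h⁻¹) = 1 := by
      rw [Subgroup.coe_one] at this
      calc w * (h * w * h⁻¹) = (w * h) ^ 2 * (h ^ 2)⁻¹ := by simp only [pow_two]; group
        _ = 1 := this.symm
    have h2 := inv_eq_of_mul_eq_one_right h1
    rw [inv_eq_of_mul_eq_one_right (by rw [← pow_two, ← hp2]; exact hZp w hwZ : w * w = 1)] at h2
    exact (mul_inv_eq_iff_eq_mul.mp h2.symm)
  · rintro ⟨hv, hc⟩
    refine ⟨⟨v, hv⟩, MonoidHom.mem_ker.mpr (Subtype.ext ?_), rfl⟩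
    rw [hNm, hp2, Subgroup.coe_one]
    calc (v * h) ^ 2 * (h ^ 2)⁻¹ = v * (h * v * h⁻¹) := by simp only [pow_two]; group
      _ = v * v := by rw [hc.eq, mul_inv_cancel_right]
      _ = 1 := by rw [← pow_two, ← hp2]; exact hZp v hv

end Part

end CfsgLib.Perm.Partition
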