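import Cfsg.Agent.Lib.Perm.Partition.Pcase
import Cfsg.Agent.S0065

/-!
# A normal member of a partition

The group is a Frobenius group or all elements outside the member have the same prime order.
-/

set_option autoImplicit false
set_option linter.style.haveILetI false

namespace CfsgLib.Perm.Partition

open scoped IsMulCommutative

variable {G : Type*} [Group G] [Finite G]

/-- The central elements of exponent `s` of a normal subgroup. -/
def omegaCenter (A : Subgroup G) (s : ℕ) : Subgroup G where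
  carrier := {u | u ∈ A ∧ u ^ s = 1 ∧ ∀ a ∈ A, Commute u a}
  one_mem' := ⟨one_mem _, one_pow _, fun a _ => Commute.one_left a⟩
  mul_mem' := fun {u w} hu hw => ⟨mul_mem hu.1 hw.1, by
    rw [(hu.2.2 w hw.1).mul_pow, hu.2.1, hw.2.1, one_mul], fun a ha =>
    (hu.2.2 a ha).mul_left (hw.2.2 a ha)⟩
  inv_mem' := fun {u} hu => ⟨inv_mem hu.1, by rw [inv_pow, hu.2.1, inv_one], fun a ha =>
    (hu.2.2 a ha).inv_left⟩

omit [Finite G] in
theorem mem_omegaCenter {A : Subgroup G} {s : ℕ} {u : G} :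
    u ∈ omegaCenter A s ↔ u ∈ A ∧ u ^ s = 1 ∧ ∀ a ∈ A, Commute u a := Iff.rfl

omit [Finite G] in
theorem omegaCenter_normal (A : Subgroup G) [hA : A.Normal] (s : ℕ) : (omegaCenter A s).Normal :=
  ⟨fun u hu g => ⟨hA.conj_mem u hu.1 g, by rw [conj_pow, hu.2.1, mul_one, mul_inv_cancel],
    fun a ha => by
      have h := hu.2.2 (g⁻¹ * a * g) (by simpa using hA.conj_mem a ha g⁻¹)
      show g * u * g⁻¹ * a = a * (g * u * g⁻¹)
      calc g * u * g⁻¹ * a = g * (u * (g⁻¹ * a * g)) * g⁻¹ := by group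
        _ = _ := by rw [h.eq]; group⟩⟩

/-- In a nilpotent subgroup of order divisible by `s` there is a central element of order `s`. -/
theorem omegaCenter_ne_bot {A : Subgroup G} [Group.IsNilpotent A] {s : ℕ} (hs : s.Prime)
    (hsA : s ∣ Nat.card A) : omegaCenter A s ≠ ⊥ := by
  haveI : Fact s.Prime := ⟨hs⟩
  obtain ⟨S⟩ : Nonempty (Sylow s A) := inferInstance
  haveI : (S : Subgroup A).Normal :=
    ((Group.isNilpotent_of_finite_tfae (G := A)).out 0 3 rfl rfl).mp inferInstance s inferInstance S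
  have hS1 : (S : Subgroup A) ≠ ⊥ := fun e => by
    have := S.dvd_card_of_dvd_card hsA
    rw [e, Subgroup.card_bot, Nat.dvd_one] at this
    exact hs.ne_one this
  obtain ⟨c, hc, hc1⟩ := Subgroup.bot_or_exists_ne_one _ |>.resolve_left
    (Cfsg.Agent.S0065.result (S : Subgroup A) hS1)
  obtain ⟨k, hk⟩ := S.isPGroup' ⟨c, hc.1⟩
  have hk' : c ^ s ^ k = 1 := congrArg Subtype.val hk
  obtain ⟨j, -, hj⟩ := (Nat.dvd_prime_pow hs).mp (orderOf_dvd_of_pow_eq_one hk')
  have hj0 : j ≠ 0 := fun e => hc1 (orderOf_eq_one_iff.mp (by rw [hj, e, pow_zero]))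
  intro e
  have hu : (c : G) ^ s ^ (j - 1) ∈ omegaCenter A s := by
    refine ⟨pow_mem c.2 _, ?_, fun a ha => Commute.pow_left ?_ _⟩
    · rw [← pow_mul, ← pow_succ, Nat.sub_add_cancel (Nat.pos_of_ne_zero hj0), ← hj,
        ← Subgroup.coe_pow, pow_orderOf_eq_one]
      rfl
    · exact congrArg Subtype.val (Subgroup.mem_center_iff.mp hc.2 ⟨a, ha⟩).symm
  rw [e, Subgroup.mem_bot, ← Subgroup.coe_pow] at hu
  have hd : s ^ j ∣ s ^ (j - 1) := by
    rw [← hj]; exact orderOf_dvd_of_pow_eq_one (Subtype.ext hu)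
  have := (Nat.pow_dvd_pow_iff_le_right hs.one_lt).mp hd
  omega

namespace Part

variable (P : Part G)

/-- The conclusion for a normal member. -/
theorem normal_case (hN : P.NSN) {x₀ : G} (hx₀ : x₀ ≠ 1) (hAn : (P.comp x₀).Normal)
    (hnp : ∀ p : ℕ, p.Prime → ¬ IsPGroup p G) :
    (∃ p : ℕ, p.Prime ∧ Subgroup.closure {g : G | g ^ p ≠ 1} ≠ ⊤) ∨
      ∃ H : Subgroup G, Cfsg.IsFrobeniusComplement H := by
  classical
  set A := P.comp x₀ with hA
  haveI := hAn
  haveI := P.isNilpotent hN hx₀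
  have hAtop : A ≠ ⊤ := P.ne_top x₀ hx₀
  have hA1 : A ≠ ⊥ := fun e => hx₀ (Subgroup.mem_bot.mp (e ▸ P.mem x₀ hx₀))
  -- commuting pairs have equal prime orders
  have hpair : ∀ g u : G, g ∉ A → u ∈ A → u ≠ 1 → Commute g u →
      (orderOf u).Prime ∧ orderOf g = orderOf u := fun g u hg hu hu1 hc => by
    refine P.prime_orderOf hu1 (fun e => hg (e ▸ one_mem _)) ?_ hc.symm
    rwa [P.eq_of_mem x₀ u hx₀ hu hu1]
  have hdisj : ∀ {h : G}, h ∉ A → ∀ {z : G}, z ∈ A → z ∈ P.comp h → z = 1 := by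
    intro h hh z hzA hzh
    by_contra hz
    refine hh ?_
    have h1 : h ≠ 1 := fun e => hh (e ▸ one_mem _)
    rw [hA, ← P.eq_of_mem x₀ z hx₀ hzA hz, P.eq_of_mem h z h1 hzh hz]
    exact P.mem h h1
  by_cases hfix : ∀ g, g ∉ A → ∀ u ∈ A, Commute g u → u = 1
  · refine Or.inr (frobenius_of_hall A hA1 hAtop (Nat.coprime_of_dvd fun p hp hpA hpi => ?_)
      fun g hg _ => hfix g hg)
    haveI : Fact p.Prime := ⟨hp⟩
    obtain ⟨h, hh⟩ := exists_prime_orderOf_dvd_card' (G := G ⧸ A) p (by rwa [← Subgroup.index_eq_card])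
    obtain ⟨g, rfl⟩ := QuotientGroup.mk_surjective h
    have hg : g ∉ A := fun e => hp.ne_one (by
      rw [← hh, (QuotientGroup.eq_one_iff g).mpr e, orderOf_one])
    have hgp : g ^ p = 1 := P.pow_eq_one hx₀ hg (by
      rw [← hA, ← QuotientGroup.eq_one_iff, QuotientGroup.mk_pow, ← hh, pow_orderOf_eq_one])
    obtain ⟨u, hu, hu1, hc⟩ := exists_fixed (k := 1) (by rwa [pow_one]) A
      (fun u hu => hAn.conj_mem u hu g) hpA
    exact hu1 (hfix g hg u hu hc)
  push Not at hfix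
  obtain ⟨g₀, hg₀, u₀, hu₀, hgu, hu₀1⟩ := hfix
  obtain ⟨hp, hordg⟩ := hpair g₀ u₀ hg₀ hu₀ hu₀1 hgu
  set p := orderOf u₀ with hpdef
  haveI : Fact p.Prime := ⟨hp⟩
  have hpA : p ∣ Nat.card A := A.orderOf_dvd_natCard hu₀
  -- the `p`-elements outside `A` have order `p`
  have hprim : ∀ {s : ℕ}, s.Prime → s ∣ Nat.card A → ∀ g : G, g ∉ A → (∃ k, g ^ s ^ k = 1) →
      orderOf g = s := by
    intro s hs hsA g hg ⟨k, hk⟩
    haveI : Fact s.Prime := ⟨hs⟩
    obtain ⟨u, hu, hu1, hc⟩ := exists_fixed hk A (fun u hu => hAn.conj_mem u hu g) hsA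
    obtain ⟨h1, h2⟩ := hpair g u hg hu hu1 hc
    obtain ⟨j, -, hj⟩ := (Nat.dvd_prime_pow hs).mp (orderOf_dvd_of_pow_eq_one hk)
    have hpr : (s ^ j).Prime := hj ▸ h2 ▸ h1
    rw [hj, (Nat.Prime.pow_eq_iff hpr).mp rfl |>.2, pow_one]
  have hsame : ∀ (g v : G) (s : ℕ), g ∉ A → v ∈ A → v ^ s = 1 → v ≠ 1 → s.Prime →
      Commute g v → orderOf g = s := fun g v s hg hv hvs hv1 hs hc =>
    (hpair g v hg hv hv1 hc).2.trans ((haveI : Fact s.Prime := ⟨hs⟩; orderOf_eq_prime hvs hv1))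
  by_cases hq : ∃ q : ℕ, q.Prime ∧ q ≠ p ∧ q ∣ Nat.card A
  · -- `A` is not a `p`-group
    obtain ⟨q, hqp, hqne, hqA⟩ := hq
    have hact : ∀ {s : ℕ}, s.Prime → s ∣ Nat.card A → ∃ (Z : Subgroup G) (_ : IsMulCommutative Z)
        (ρ : G ⧸ A →* MulAut Z), (∀ v : Z, v ^ s = 1) ∧ (∃ v : Z, v ≠ 1) ∧
        (∀ v : Z, (v : G) ∈ A) ∧
        ∀ (g : G) (v : Z), ((ρ (g : G ⧸ A) v : Z) : G) = g * v * g⁻¹ := by
      intro s hs hsA
      haveI := omegaCenter_normal A s
      obtain ⟨ρ, hρ⟩ := exists_action A (omegaCenter A s) fun a ha z hz => (hz.2.2 a ha).symm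
      obtain ⟨z, hz, hz1⟩ := (omegaCenter A s).bot_or_exists_ne_one.resolve_left
        (omegaCenter_ne_bot hs hsA)
      exact ⟨_, ⟨⟨fun u w => Subtype.ext (u.2.2.2 w w.2.1).eq⟩⟩, ρ, fun v => Subtype.ext v.2.2.1,
        ⟨⟨z, hz⟩, fun e => hz1 (congrArg Subtype.val e)⟩, fun v => v.2.1, hρ⟩
    -- fixed-point-freeness
    have hfpf : ∀ {s : ℕ}, s.Prime → ∀ {Z : Subgroup G} [IsMulCommutative Z] (ρ : G ⧸ A →* MulAut Z),
        (∀ v : Z, v ^ s = 1) → (∀ v : Z, (v : G) ∈ A) →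
        (∀ (g : G) (v : Z), ((ρ (g : G ⧸ A) v : Z) : G) = g * v * g⁻¹) →
        ∀ y : G ⧸ A, y ≠ 1 → ¬ s ∣ orderOf y → ∀ v, ρ y v = v → v = 1 := by
      intro s hs Z _ ρ hvs hvA hρ y hy hy' v hv
      obtain ⟨g, rfl, hg⟩ := exists_lift hs A hy'
      by_contra hv1
      refine hg (dvd_of_eq (hsame g v s (fun e => hy ((QuotientGroup.eq_one_iff g).mpr e)) (hvA v) ?_
        (fun e => hv1 (Subtype.ext e)) hs ?_).symm)
      · exact congrArg Subtype.val (hvs v)
      · exact mul_inv_eq_iff_eq_mul.mp ((hρ g v).symm.trans (congrArg Subtype.val hv))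
    -- all norms are trivial
    have hnorms : ∀ {s : ℕ}, s.Prime → s ∣ Nat.card A → ∀ {Z : Subgroup G} [IsMulCommutative Z]
        (ρ : G ⧸ A →* MulAut Z), (∀ v : Z, (v : G) ∈ A) →
        (∀ (g : G) (v : Z), ((ρ (g : G ⧸ A) v : Z) : G) = g * v * g⁻¹) →
        ∀ h : G ⧸ A, orderOf h = s → ∀ v, norm ρ s h v = 1 := by
      intro s hs hsA Z _ ρ hvA hρ h hh v
      haveI : Fact s.Prime := ⟨hs⟩
      obtain ⟨g, rfl⟩ := QuotientGroup.mk_surjective h
      have key : ∀ k : G, (k : G ⧸ A) = (g : G ⧸ A) → k ^ s = 1 := fun k hk => by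
        refine P.pow_eq_one hx₀ (fun e => hs.ne_one ?_) ?_
        · rw [← hh, ← hk, (QuotientGroup.eq_one_iff k).mpr e, orderOf_one]
        · rw [← hA, ← QuotientGroup.eq_one_iff, QuotientGroup.mk_pow, hk, ← hh, pow_orderOf_eq_one]
      refine Subtype.ext ?_
      rw [coe_norm ρ hρ, key _ (by rw [QuotientGroup.mk_mul, (QuotientGroup.eq_one_iff _).mpr (hvA v),
        one_mul]), key g rfl]
      simp
    obtain ⟨Zp, _, ρp, hp1, ⟨vp, hvp⟩, hp3, hρp⟩ := hact hp hpA
    obtain ⟨Zq, _, ρq, hq1, ⟨vq, hvq⟩, hq3, hρq⟩ := hact hqp hqA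
    -- no commuting elements of order `p` and of order prime to `p`
    have hcomm : ∀ h y : G ⧸ A, orderOf h = p → y ≠ 1 → ¬ p ∣ orderOf y → ¬ Commute h y := by
      intro h y hh hy hy' hc
      obtain ⟨h', y', h1, h2, ⟨k, hk⟩, h4, h5, h6⟩ := exists_lift_pair hp A hh hy hy' hc
      obtain ⟨u, hu, hu1, hcu⟩ := exists_fixed hk A (fun u hu => hAn.conj_mem u hu h') hpA
      obtain ⟨hup, hou⟩ := hpair h' u h1 hu hu1 hcu
      have hho := hprim hp hpA h' h1 ⟨k, hk⟩
      have hh1 : h' ≠ 1 := fun e => h1 (e ▸ one_mem _)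
      have hy1 : y' ≠ 1 := fun e => h4 (e ▸ one_mem _)
      have hm := P.comm_mem hh1 hy1 h6 hcu (fun e => h5 (by rw [e, hho]))
      have hmA : u * y' * u⁻¹ * y'⁻¹ ∈ A := by
        rw [show u * y' * u⁻¹ * y'⁻¹ = u * (y' * u⁻¹ * y'⁻¹) by group]
        exact mul_mem hu (hAn.conj_mem _ (inv_mem hu) y')
      have he := hdisj h1 hmA hm
      have hc' : Commute y' u := (mul_inv_eq_iff_eq_mul.mp (mul_inv_eq_one.mp he)).symm
      exact h5 (dvd_of_eq (by rw [(hpair y' u h4 hu hu1 hc').2, ← hou, hho]))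
    have hdvd : p ∣ Nat.card (G ⧸ A) := by
      refine dvd_trans (dvd_of_eq ?_) (orderOf_dvd_natCard ((g₀ : G) : G ⧸ A))
      exact (orderOf_eq_prime (by rw [← QuotientGroup.mk_pow, ← hordg, pow_orderOf_eq_one]; rfl)
        fun e => hg₀ ((QuotientGroup.eq_one_iff g₀).mp e)).symm
    by_cases hO : ∀ N : Subgroup (G ⧸ A), N.Normal → IsPGroup p N → N = ⊥
    · obtain ⟨h, hh, v, hv⟩ := exists_norm ρp hp hp1 hvp (hfpf hp ρp hp1 hp3 hρp) hcomm hO hdvd
      exact absurd (hnorms hp hpA ρp hp3 hρp h hh v) hv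
    push Not at hO
    obtain ⟨N, hNn, hNp, hN1⟩ := hO
    -- elements of order `p` commute only if dependent
    have hdep : ∀ h k : G ⧸ A, h ^ p = 1 → h ≠ 1 → k ^ p = 1 → Commute h k →
        k ∈ Subgroup.zpowers h := by
      intro h k hh hh1 hk hc
      by_contra hkh
      have hk1 : k ≠ 1 := fun e => hkh (e ▸ one_mem _)
      have hpq' : ∀ z : G ⧸ A, z ^ p = 1 → z ≠ 1 → ∀ w : Zq, ρq z w = w → w = 1 := fun z hz hz1 =>
        hfpf hqp ρq hq1 hq3 hρq z hz1 fun hd => by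
          rw [orderOf_eq_prime hz hz1] at hd
          exact hqne ((Nat.prime_dvd_prime_iff_eq hqp hp).mp hd)
      -- every element `≠ 1` generates a sum zero
      have hsum : ∀ z : G ⧸ A, z ^ p = 1 → z ≠ 1 → ∀ w : Zq, ∏ i ∈ Finset.range p, ρq (z ^ i) w = 1 := by
        intro z hz hz1 w
        refine hpq' z hz hz1 _ ?_
        rw [map_prod]
        simp only [← MulAut.mul_apply, ← map_mul, ← pow_succ']
        rw [← mul_left_inj (ρq (z ^ 0) w), ← Finset.prod_range_succ' (fun i => ρq (z ^ i) w),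
          Finset.prod_range_succ, hz, pow_zero]
      have hh' : orderOf h = p := orderOf_eq_prime hh hh1
      have e1 : ∏ i ∈ Finset.range p, ∏ l ∈ Finset.range p, ρq ((h * k ^ i) ^ l) vq = 1 := by
        refine Finset.prod_eq_one fun i _ => hsum _ ?_ (fun e => ?_) vq
        · rw [(hc.pow_right i).mul_pow, hh, ← pow_mul, mul_comm, pow_mul, hk, one_pow, mul_one]
        · by_cases hi : p ∣ i
          · obtain ⟨d, rfl⟩ := hi
            rw [pow_mul, hk, one_pow, mul_one] at e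
            exact hh1 e
          · refine hkh ?_
            have hkm : k ^ i ∈ Subgroup.zpowers h := by
              rw [eq_inv_of_mul_eq_one_right e]; exact inv_mem (Subgroup.mem_zpowers h)
            obtain ⟨t, ht⟩ := exists_pow_eq_self_of_coprime (x := k) (n := i)
              (by rw [orderOf_eq_prime hk hk1]; exact ((hp.coprime_iff_not_dvd).mpr hi).symm)
            rw [← ht]
            exact Subgroup.pow_mem _ hkm t
      rw [Finset.prod_comm] at e1
      have e2 : ∀ l ∈ Finset.range p, l ≠ 0 → ∏ i ∈ Finset.range p, ρq ((h * k ^ i) ^ l) vq = 1 := by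
        intro l hl hl0
        have hkl : (k ^ l) ≠ 1 := fun e => by
          have := orderOf_dvd_of_pow_eq_one e
          rw [orderOf_eq_prime hk hk1] at this
          exact absurd (Nat.le_of_dvd (Nat.pos_of_ne_zero hl0) this) (not_le.mpr (Finset.mem_range.mp hl))
        rw [← hsum (k ^ l) (by rw [← pow_mul, mul_comm, pow_mul, hk, one_pow]) hkl (ρq (h ^ l) vq)]
        refine Finset.prod_congr rfl fun i _ => ?_
        rw [← MulAut.mul_apply, ← map_mul]
        congr 2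
        rw [(hc.pow_right i).mul_pow, ← pow_mul, ← pow_mul, mul_comm l i,
          (hc.pow_pow l (i * l)).eq]
      rw [Finset.prod_eq_single 0 e2 (fun h0 => absurd (Finset.mem_range.mpr hp.pos) h0)] at e1
      simp only [pow_zero, map_one, MulAut.one_apply, Finset.prod_const, Finset.card_range] at e1
      refine hvq (orderOf_eq_one_iff.mp (Nat.dvd_one.mp ?_))
      rw [← Nat.coprime_iff_gcd_eq_one.mp ((Nat.coprime_primes hqp hp).mpr hqne)]
      exact Nat.dvd_gcd (orderOf_dvd_of_pow_eq_one (hq1 vq)) (orderOf_dvd_of_pow_eq_one e1)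
    have hexp : ∀ z : G ⧸ A, (∃ k, z ^ p ^ k = 1) → z ^ p = 1 := by
      intro z ⟨k, hk⟩
      by_contra hz
      have hz1 : z ≠ 1 := fun e => hz (by rw [e, one_pow])
      obtain ⟨g, rfl⟩ := QuotientGroup.mk_surjective z
      have hgA : g ∉ A := fun e => hz1 ((QuotientGroup.eq_one_iff g).mpr e)
      have := hprim hp hpA g hgA ⟨k, P.pow_eq_one hx₀ hgA (by
        rw [← hA, ← QuotientGroup.eq_one_iff, QuotientGroup.mk_pow, hk])⟩
      exact hz (by rw [← QuotientGroup.mk_pow, ← this, pow_orderOf_eq_one]; rfl)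
    haveI := hNn
    obtain ⟨h, hhN, hh1⟩ := N.bot_or_exists_ne_one.resolve_left hN1
    -- the subgroup `N` is cyclic of order `p`
    have hNeq : ∀ (U : Subgroup (G ⧸ A)), IsPGroup p U → U ≠ ⊥ → ∃ z, z ≠ 1 ∧ z ^ p = 1 ∧
        U = Subgroup.zpowers z := by
      intro U hU hU1
      haveI : Nontrivial U := (Subgroup.nontrivial_iff_ne_bot U).mpr hU1
      haveI := hU.center_nontrivial
      obtain ⟨⟨z, hz⟩, hz1⟩ := exists_ne (1 : Subgroup.center U)
      have he : ∀ w : U, (w : G ⧸ A) ^ p = 1 := fun w => by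
        obtain ⟨k, hk⟩ := hU w
        exact hexp _ ⟨k, congrArg Subtype.val hk⟩
      have hz1' : ((z : U) : G ⧸ A) ≠ 1 := fun e => hz1 (Subtype.ext (Subtype.ext e))
      refine ⟨z, hz1', he z, le_antisymm (fun w hw => ?_) (Subgroup.zpowers_le.mpr z.2)⟩
      exact hdep z w (he z) hz1' (he ⟨w, hw⟩)
        (congrArg Subtype.val (Subgroup.mem_center_iff.mp hz ⟨w, hw⟩)).symm
    obtain ⟨z, hz1, hzp, hNz⟩ := hNeq N hNp hN1
    have hzord : orderOf z = p := orderOf_eq_prime hzp hz1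
    by_cases hy : ∃ y : G ⧸ A, y ≠ 1 ∧ ¬ p ∣ orderOf y
    · exfalso
      obtain ⟨y, hy1, hyp⟩ := hy
      obtain ⟨r, hr, hrd⟩ := Nat.exists_prime_and_dvd (mt orderOf_eq_one_iff.mp hy1)
      set y' := y ^ (orderOf y / r) with hy'
      have hyo : orderOf y' = r := orderOf_pow_orderOf_div (orderOf_pos y).ne' hrd
      haveI : Fact r.Prime := ⟨hr⟩
      have hrp : r ≠ p := fun e => hyp (e ▸ hrd)
      have hnorm : ∀ w ∈ N, y' * w * y'⁻¹ ∈ N := fun w hw => hNn.conj_mem w hw y'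
      have hQcard : Nat.card N = p := by rw [hNz, Nat.card_zpowers, hzord]
      have hzN : z ∈ N := hNz ▸ Subgroup.mem_zpowers z
      have hQy : ∀ i, 0 < i → i < r → ∀ w ∈ N, Commute (y' ^ i) w → w = 1 := by
        intro i hi hir w hw hc
        by_contra hw1
        have hwp : w ^ p = 1 := by
          rw [← hQcard, ← orderOf_dvd_iff_pow_eq_one]; exact N.orderOf_dvd_natCard hw
        have hord : orderOf (y' ^ i) = r := by
          rw [orderOf_pow, hyo, Nat.Coprime.gcd_eq_one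
            ((Nat.Prime.coprime_iff_not_dvd hr).mpr (Nat.not_dvd_of_pos_of_lt hi hir)), Nat.div_one]
        refine hcomm w (y' ^ i) (orderOf_eq_prime hwp hw1) (fun e => ?_) (fun hd => ?_) hc.symm
        · rw [e, orderOf_one] at hord; exact hr.ne_one hord.symm
        · rw [hord] at hd; exact hrp ((Nat.prime_dvd_prime_iff_eq hp hr).mp hd).symm
      -- an element of order `p` acts without fixed points on the `s`-part, `s ≠ p`
      have hz_fix : ∀ {s : ℕ}, s.Prime → s ≠ p → ∀ {Z : Subgroup G} [IsMulCommutative Z]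
          (ρ : G ⧸ A →* MulAut Z), (∀ v : Z, v ^ s = 1) → (∀ v : Z, (v : G) ∈ A) →
          (∀ (g : G) (v : Z), ((ρ (g : G ⧸ A) v : Z) : G) = g * v * g⁻¹) →
          ∀ v, ρ z v = v → v = 1 := fun {s} hs hsp {Z} _ ρ h1 h2 h3 =>
        hfpf hs ρ h1 h2 h3 z hz1 fun hd => hsp ((Nat.prime_dvd_prime_iff_eq hs hp).mp (hzord ▸ hd))
      have hnz : ∀ {s : ℕ}, s.Prime → s ≠ p → ∀ {Z : Subgroup G} [IsMulCommutative Z] (v : Z),
          v ≠ 1 → v ^ s = 1 → v ^ Nat.card N ≠ 1 := by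
        intro s hs hsp Z _ v hv hvs e
        rw [hQcard] at e
        refine hv (orderOf_eq_one_iff.mp (Nat.dvd_one.mp ?_))
        rw [← Nat.coprime_iff_gcd_eq_one.mp ((Nat.coprime_primes hs hp).mpr hsp)]
        exact Nat.dvd_gcd (orderOf_dvd_of_pow_eq_one hvs) (orderOf_dvd_of_pow_eq_one e)
      by_cases hrA : r ∣ Nat.card A
      · obtain ⟨Zr, _, ρr, hr1, ⟨vr, hvr⟩, hr3, hρr⟩ := hact hr hrA
        obtain ⟨w, -, v, hv⟩ := exists_norm_ne_one ρr hr hnorm hQy hzN
          (hz_fix hr hrp ρr hr1 hr3 hρr) (hnz hr hrp vr hvr (hr1 vr))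
        exact hv (hnorms hr hrA ρr hr3 hρr _
          ((MulEquiv.orderOf_eq (MulAut.conj w) y').trans hyo) v)
      · obtain ⟨w, -, v, hv⟩ := exists_norm_ne_one ρq hr hnorm hQy hzN
          (hz_fix hqp hqne ρq hq1 hq3 hρq) (hnz hqp hqne vq hvq (hq1 vq))
        set y'' := w * y' * w⁻¹ with hy''
        have hyo' : orderOf y'' = r := (MulEquiv.orderOf_eq (MulAut.conj w) y').trans hyo
        refine hv (hfpf hqp ρq hq1 hq3 hρq y'' (fun e => ?_) (fun hd => ?_) _ ?_)
        · rw [e, orderOf_one] at hyo'; exact hr.ne_one hyo'.symm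
        · rw [hyo'] at hd
          exact hrA ((Nat.prime_dvd_prime_iff_eq hqp hr).mp hd ▸ hqA)
        · simp only [norm, map_prod, ← MulAut.mul_apply, ← map_mul, ← pow_succ']
          rw [← mul_left_inj (ρq (y'' ^ 0) v), ← Finset.prod_range_succ' (fun i => ρq (y'' ^ i) v),
            Finset.prod_range_succ, ← hyo', pow_orderOf_eq_one, pow_zero]
    · push Not at hy
      refine Or.inl ⟨p, hp, fun htop => hAtop (eq_top_iff.mpr ?_)⟩
      rw [← htop, Subgroup.closure_le]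
      intro g hg
      by_contra hgA
      have hpG : IsPGroup p (G ⧸ A) := fun w => by
        obtain ⟨a, m, hm, ho⟩ := Nat.exists_eq_pow_mul_and_not_dvd (orderOf_pos w).ne' p hp.ne_one
        refine ⟨a, by_contra fun hne => hm ?_⟩
        have hd := hy _ hne
        refine hd.trans (orderOf_dvd_of_pow_eq_one ?_)
        rw [← pow_mul, ← ho, pow_orderOf_eq_one]
      obtain ⟨k, hk⟩ := hpG (g : G ⧸ A)
      refine hg (P.pow_eq_one hx₀ hgA ?_)
      rw [← hA, ← QuotientGroup.eq_one_iff, QuotientGroup.mk_pow]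
      exact hexp _ ⟨k, hk⟩
  · -- `A` is a `p`-group
    push Not at hq
    have hApg : IsPGroup p A := IsPGroup.of_card
      (Nat.eq_prime_pow_of_unique_prime_dvd Nat.card_pos.ne' fun {d} hd hdA =>
        by_contra fun hne => hq d hd hne hdA)
    obtain ⟨P0, hle, hmax'⟩ := Finite.exists_le_maximal
      (p := fun K : Subgroup G => K.Normal ∧ IsPGroup p K) (show A.Normal ∧ IsPGroup p A from ⟨hAn, hApg⟩)
    haveI := hmax'.prop.1
    have hP : IsPGroup p P0 := hmax'.prop.2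
    have hmax : ∀ N : Subgroup G, N.Normal → IsPGroup p N → N ≤ P0 := fun N hN hNp => by
      haveI := hN
      exact le_sup_right.trans (hmax'.2 ⟨inferInstance, hP.to_sup_of_normal_right hNp⟩ le_sup_left)
    have hnt : P0 ≠ ⊤ := fun e => hnp p hp ((e ▸ hP : IsPGroup p (⊤ : Subgroup G)).of_equiv Subgroup.topEquiv)
    haveI := omegaCenter_normal P0 p
    let Z : Subgroup G := omegaCenter P0 p ⊓ A
    haveI : Z.Normal := inferInstance
    have hZ1 : Z ≠ ⊥ := by
      haveI : Group.IsNilpotent P0 := hP.isNilpotent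
      have hA' : A.subgroupOf P0 ≠ ⊥ := fun e => hA1 (eq_bot_iff.mpr fun a ha => by
        have : (⟨a, hle ha⟩ : P0) ∈ A.subgroupOf P0 := ha
        rw [e, Subgroup.mem_bot] at this
        exact Subgroup.mem_bot.mpr (congrArg Subtype.val this))
      obtain ⟨c, hc, hc1⟩ := Subgroup.bot_or_exists_ne_one _ |>.resolve_left
        (Cfsg.Agent.S0065.result (A.subgroupOf P0) hA')
      obtain ⟨k, hk⟩ := hP c
      obtain ⟨j, -, hj⟩ := (Nat.dvd_prime_pow hp).mp (orderOf_dvd_of_pow_eq_one hk)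
      have hj0 : j ≠ 0 := fun e => hc1 (orderOf_eq_one_iff.mp (by rw [hj, e, pow_zero]))
      intro e
      have hu : (c : G) ^ p ^ (j - 1) ∈ Z := by
        refine ⟨⟨pow_mem c.2 _, ?_, fun a ha => Commute.pow_left ?_ _⟩, pow_mem hc.1 _⟩
        · rw [← pow_mul, ← pow_succ, Nat.sub_add_cancel (Nat.pos_of_ne_zero hj0), ← hj,
            ← Subgroup.coe_pow, pow_orderOf_eq_one]
          rfl
        · exact congrArg Subtype.val (Subgroup.mem_center_iff.mp hc.2 ⟨a, ha⟩).symm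
      rw [e, Subgroup.mem_bot, ← Subgroup.coe_pow] at hu
      have hd : p ^ j ∣ p ^ (j - 1) := by
        rw [← hj]; exact orderOf_dvd_of_pow_eq_one (Subtype.ext hu)
      have := (Nat.pow_dvd_pow_iff_le_right hp.one_lt).mp hd
      omega
    -- elements of order prime to `p` are outside `A`
    have hout : ∀ y : G, y ≠ 1 → ¬ p ∣ orderOf y → y ∉ A := fun y hy hy' hm => by
      obtain ⟨k, hk⟩ := hApg ⟨y, hm⟩
      have hk' : y ^ p ^ k = 1 := congrArg Subtype.val hk
      obtain ⟨j, -, hj⟩ := (Nat.dvd_prime_pow hp).mp (orderOf_dvd_of_pow_eq_one hk')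
      rcases j with _ | j
      · exact hy (orderOf_eq_one_iff.mp hj)
      · exact hy' (hj ▸ dvd_pow_self p j.succ_ne_zero)
    have hfA : ∀ y : G, y ≠ 1 → ¬ p ∣ orderOf y → ∀ u ∈ A, Commute y u → u = 1 := by
      intro y hy hy' u hu hc
      by_contra hu1
      obtain ⟨hup, hyu⟩ := hpair y u (hout y hy hy') hu hu1 hc
      obtain ⟨k, hk⟩ := hApg ⟨u, hu⟩
      have hk' : u ^ p ^ k = 1 := congrArg Subtype.val hk
      obtain ⟨j, -, hj⟩ := (Nat.dvd_prime_pow hp).mp (orderOf_dvd_of_pow_eq_one hk')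
      rcases j with _ | j
      · exact hu1 (orderOf_eq_one_iff.mp hj)
      · exact hy' (by rw [hyu, hj]; exact dvd_pow_self p j.succ_ne_zero)
    -- a `p`-element outside `A` and a commuting element of order prime to `p`
    have key : ∀ h y : G, h ∉ A → (∃ k, h ^ p ^ k = 1) → y ≠ 1 → ¬ p ∣ orderOf y →
        ¬ Commute h y := by
      intro h y hh ⟨k, hk⟩ hy hy' hc
      obtain ⟨u, hu, hu1, hcu⟩ := exists_fixed hk A (fun u hu => hAn.conj_mem u hu h) hpA
      have hho := hprim hp hpA h hh ⟨k, hk⟩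
      have hm := P.comm_mem (fun (e : h = 1) => hh (e ▸ one_mem A)) hy hc hcu (fun e => hy' (by rw [e, hho]))
      have hmA : u * y * u⁻¹ * y⁻¹ ∈ A := by
        rw [show u * y * u⁻¹ * y⁻¹ = u * (y * u⁻¹ * y⁻¹) by group]
        exact mul_mem hu (hAn.conj_mem _ (inv_mem hu) y)
      exact hu1 (hfA y hy hy' u hu
        (mul_inv_eq_iff_eq_mul.mp (mul_inv_eq_one.mp (hdisj hh hmA hm))).symm)
    have hfP : ∀ y : G, y ≠ 1 → ¬ p ∣ orderOf y → ∀ x ∈ P0, Commute y x → x = 1 := by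
      intro y hy hy' x hx hc
      by_contra hx1
      by_cases hxA : x ∈ A
      · exact hx1 (hfA y hy hy' x hxA hc)
      · obtain ⟨k, hk⟩ := hP ⟨x, hx⟩
        exact key x y hxA ⟨k, congrArg Subtype.val hk⟩ hy hy' hc.symm
    rcases frobenius_or_norm hp P0 hP hmax hnt Z (inf_le_right.trans hle) hZ1 (fun z hz => hz.1.2.1)
        (fun z hz x hx => (hz.1.2.2 x hx).symm) (fun y hy hy' z hz hc => hfA y hy hy' z hz.2 hc)
        hfP (fun h y hh _ hhp hy hy' => key h y (fun e => hh (hle e)) hhp hy hy')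
      with hF | ⟨h, hh, -, ⟨k, hk⟩, v, hv, hne⟩
    · exact Or.inr hF
    · have hhA : h ∉ A := fun e => hh (hle e)
      have h1 := hprim hp hpA h hhA ⟨k, hk⟩
      refine absurd ?_ hne
      rw [show h ^ p = 1 by rw [← h1, pow_orderOf_eq_one]]
      refine P.pow_eq_one hx₀ (fun e => hhA ?_) ?_
      · have := mul_mem (inv_mem (show v ∈ A from hv.2)) (hA ▸ e : v * h ∈ A)
        rwa [inv_mul_cancel_left] at this
      · rw [← hA, ← QuotientGroup.eq_one_iff, QuotientGroup.mk_pow, QuotientGroup.mk_mul,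
          (QuotientGroup.eq_one_iff v).mpr hv.2, one_mul, ← QuotientGroup.mk_pow, ← h1, pow_orderOf_eq_one]
        rfl

end Part

end CfsgLib.Perm.Partition
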