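import Cfsg.Agent.Lib.Involution.BaerSuzuki
import Cfsg.Agent.S0205

/-!
# Elements of prime order with a non-trivial norm

A finite group acts on an abelian group of exponent `p`; the elements of order prime to `p` act
without fixed points and do not commute with elements of order `p`, and there is no normal
`p`-subgroup.  Then some element of order `p` has a non-trivial norm.
-/

set_option autoImplicit false
set_option linter.style.haveILetI false

namespace CfsgLib.Perm.Partition

variable {H : Type*} [Group H] [Finite H] {V : Type*} [CommGroup V]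

/-- The norm of `v` with respect to `h` of order `p`. -/
def norm (ρ : H →* MulAut V) (p : ℕ) (h : H) (v : V) : V := ∏ i ∈ Finset.range p, ρ (h ^ i) v

omit [Finite H] in
/-- The sum over a subgroup with a fixed-point-free element is trivial. -/
theorem prod_eq_one (ρ : H →* MulAut V) {Q : Subgroup H} [Fintype Q] {x : H} (hxQ : x ∈ Q)
    (hfix : ∀ v, ρ x v = v → v = 1) (v : V) : ∏ y : Q, ρ (y : H) v = 1 := by
  refine hfix _ ?_
  rw [map_prod]
  refine Fintype.prod_equiv (Equiv.mulLeft (⟨x, hxQ⟩ : Q)) _ _ fun y => ?_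
  simp only [Equiv.coe_mulLeft, Subgroup.coe_mul, map_mul, MulAut.mul_apply]

/-- The free-module lemma: if `h` normalises `Q`, acts without fixed points on it and `Q` acts without
fixed points on `V`, some conjugate of `h` has a non-trivial norm. -/
theorem exists_norm_ne_one (ρ : H →* MulAut V) {p : ℕ} (hp : p.Prime) {Q : Subgroup H} {h : H}
    (hnorm : ∀ y ∈ Q, h * y * h⁻¹ ∈ Q)
    (hQh : ∀ i, 0 < i → i < p → ∀ y ∈ Q, Commute (h ^ i) y → y = 1)
    {x : H} (hxQ : x ∈ Q) (hfix : ∀ v, ρ x v = v → v = 1) {v : V} (hv : v ^ Nat.card Q ≠ 1) :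
    ∃ y ∈ Q, ∃ w : V, norm ρ p (y * h * y⁻¹) w ≠ 1 := by
  classical
  letI := Fintype.ofFinite Q
  by_contra hcon
  push Not at hcon
  have hnorm' : ∀ (i : ℕ), ∀ y ∈ Q, h ^ i * y * (h ^ i)⁻¹ ∈ Q := by
    intro i
    induction i with
    | zero => intro y hy; simpa using hy
    | succ i ih =>
      intro y hy
      rw [pow_succ', mul_inv_rev]
      have := hnorm _ (ih y hy)
      simpa only [mul_assoc] using this
  have hsum : ∏ i ∈ Finset.range p, ∏ y : Q, ρ ((y : H) * h ^ i * (y : H)⁻¹) v = 1 := by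
    rw [Finset.prod_comm]
    refine Finset.prod_eq_one fun y _ => ?_
    have := hcon y y.2 v
    simp only [norm, conj_pow] at this
    exact this
  have hz : ∀ i ∈ Finset.range p, i ≠ 0 → ∏ y : Q, ρ ((y : H) * h ^ i * (y : H)⁻¹) v = 1 := by
    intro i hi hi0
    let φ : Q → Q := fun y => ⟨(y : H) * (h ^ i * (y : H)⁻¹ * (h ^ i)⁻¹),
      mul_mem y.2 (hnorm' i _ (inv_mem y.2))⟩
    have hinj : Function.Injective φ := fun y z e => by
      have e' : (y : H) * (h ^ i * (y : H)⁻¹ * (h ^ i)⁻¹) = (z : H) * (h ^ i * (z : H)⁻¹ * (h ^ i)⁻¹) :=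
        congrArg Subtype.val e
      refine Subtype.ext (inv_mul_eq_one.mp (hQh i (Nat.pos_of_ne_zero hi0) (Finset.mem_range.mp hi)
        ((z : H)⁻¹ * y) (mul_mem (inv_mem z.2) y.2) ?_)).symm
      have e'' := congrArg (fun q => (z : H)⁻¹ * q * h ^ i * y) e'
      simp only [mul_assoc, inv_mul_cancel_left, inv_mul_cancel, mul_one] at e''
      exact e''.symm.trans (mul_assoc _ _ _).symm
    rw [← prod_eq_one ρ hxQ hfix (ρ (h ^ i) v)]
    refine Fintype.prod_bijective φ ⟨hinj, Finite.injective_iff_surjective.mp hinj⟩ _ _ fun y => ?_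
    rw [← MulAut.mul_apply, ← map_mul]
    simp [φ, mul_assoc]
  rw [Finset.prod_eq_single 0 hz (fun h0 => absurd (Finset.mem_range.mpr hp.pos) h0)] at hsum
  refine hv (Eq.trans ?_ hsum)
  simp [Finset.card_univ, Nat.card_eq_fintype_card]

variable {p : ℕ} (ρ : H →* MulAut V)

/-- In the situation of the file header some element of order `p` has a non-trivial norm. -/
theorem exists_norm (hp : p.Prime) (hV : ∀ v : V, v ^ p = 1) {v₀ : V} (hv₀ : v₀ ≠ 1)
    (hfpf : ∀ y : H, y ≠ 1 → ¬ p ∣ orderOf y → ∀ v, ρ y v = v → v = 1)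
    (hcomm : ∀ h y : H, orderOf h = p → y ≠ 1 → ¬ p ∣ orderOf y → ¬ Commute h y)
    (hO : ∀ N : Subgroup H, N.Normal → IsPGroup p N → N = ⊥) (hdvd : p ∣ Nat.card H) :
    ∃ h : H, orderOf h = p ∧ ∃ v, norm ρ p h v ≠ 1 := by
  classical
  haveI : Fact p.Prime := ⟨hp⟩
  obtain ⟨h, hh⟩ := exists_prime_orderOf_dvd_card' (G := H) p hdvd
  have hker : ∀ k : H, ρ k = 1 → k = 1 := by
    intro k hk
    have hN : ρ.ker = ⊥ := hO ρ.ker inferInstance fun y => by
      by_contra hy
      push Not at hy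
      -- a non-trivial part of order prime to `p`
      obtain ⟨a, m, hm, ho⟩ := Nat.exists_eq_pow_mul_and_not_dvd (orderOf_pos (y : H)).ne' p hp.ne_one
      have hym : orderOf ((y : H) ^ p ^ a) = m := by
        rw [orderOf_pow_of_dvd (pow_ne_zero _ hp.ne_zero) (Dvd.intro _ ho.symm), ho,
          Nat.mul_div_cancel_left _ (pow_pos hp.pos _)]
      by_cases hm1 : m = 1
      · refine hy a (Subtype.ext ?_)
        rw [Subgroup.coe_pow]
        exact orderOf_eq_one_iff.mp (hym.trans hm1)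
      · refine hv₀ (hfpf _ (fun e => hm1 ?_) (hym ▸ hm) v₀ ?_)
        · rw [← hym, e, orderOf_one]
        · rw [map_pow, MonoidHom.mem_ker.mp y.2, one_pow, MulAut.one_apply]
    exact Subgroup.mem_bot.mp (hN ▸ MonoidHom.mem_ker.mpr hk)
  -- it suffices to find a subgroup to apply the lemma to
  suffices hQ : ∃ (h' : H) (Q : Subgroup H) (x : H), orderOf h' = p ∧ (∀ y ∈ Q, h' * y * h'⁻¹ ∈ Q) ∧
      x ∈ Q ∧ x ≠ 1 ∧ ¬ p ∣ Nat.card Q by
    obtain ⟨h', Q, x, hh', hn, hx, hx1, hQ⟩ := hQ
    have hyp : ∀ y ∈ Q, y ≠ 1 → ¬ p ∣ orderOf y := fun y hy _ hd =>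
      hQ (hd.trans (Q.orderOf_dvd_natCard hy))
    obtain ⟨y, -, w, hw⟩ := exists_norm_ne_one ρ hp hn (fun i hi hip y hy hc => by
        by_contra hy1
        refine hcomm (h' ^ i) y ?_ hy1 (hyp y hy hy1) hc
        rw [orderOf_pow, hh', Nat.Coprime.gcd_eq_one
          ((Nat.Prime.coprime_iff_not_dvd hp).mpr (Nat.not_dvd_of_pos_of_lt hi hip)), Nat.div_one])
      hx (hfpf x hx1 (hyp x hx hx1)) (v := v₀) (fun e => hv₀ (by
        have h1 : orderOf v₀ ∣ Nat.gcd p (Nat.card Q) :=
          Nat.dvd_gcd (orderOf_dvd_of_pow_eq_one (hV v₀)) (orderOf_dvd_of_pow_eq_one e)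
        rw [Nat.Coprime.gcd_eq_one ((Nat.Prime.coprime_iff_not_dvd hp).mpr hQ)] at h1
        exact orderOf_eq_one_iff.mp (Nat.dvd_one.mp h1)))
    exact ⟨y * h' * y⁻¹, (MulEquiv.orderOf_eq (MulAut.conj y) h').trans hh', w, hw⟩
  by_cases hp2 : p = 2
  · subst hp2
    obtain ⟨x, hx1, hxo, hinv⟩ := CfsgLib.Involution.BaerSuzuki.exists_inverted_odd h hh
      fun N hN hN2 hm => by
        rw [hO N hN hN2, Subgroup.mem_bot] at hm
        rw [hm, orderOf_one] at hh
        norm_num at hh
    refine ⟨h, Subgroup.zpowers x, x, hh, fun y hy => ?_, Subgroup.mem_zpowers x, hx1, ?_⟩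
    · obtain ⟨i, rfl⟩ := Subgroup.mem_zpowers_iff.mp hy
      rw [← conj_zpow, hinv, inv_zpow, ← zpow_neg]
      exact Subgroup.zpow_mem _ (Subgroup.mem_zpowers x) _
    · rw [Nat.card_zpowers]
      exact hxo.not_two_dvd_nat
  · have hAb : ∃ A : Subgroup H, A.Normal ∧ A ≠ ⊥ ∧ ∀ x ∈ A, ∀ y ∈ A, x * y = y * x := by
      by_contra hA
      push Not at hA
      -- there is no solvable normal subgroup
      have hev : Even (Nat.card H) := by
        rw [← Nat.not_odd_iff_even]
        intro hodd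
        haveI : Group.IsSolvable H := Cfsg.Agent.S0205.result hodd
        obtain ⟨n, hn⟩ : ∃ n, derivedSeries H n = ⊥ := Group.IsSolvable.solvable
        induction n with
        | zero =>
          have : h ∈ derivedSeries H 0 := by rw [derivedSeries_zero]; exact Subgroup.mem_top h
          rw [hn, Subgroup.mem_bot] at this
          rw [this, orderOf_one] at hh
          exact hp.ne_one hh.symm
        | succ n ih =>
          by_cases h0 : derivedSeries H n = ⊥
          · exact ih h0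
          · rw [derivedSeries_succ] at hn
            obtain ⟨x, hx, y, hy, hxy⟩ := hA _ (derivedSeries_normal H n) h0
            have h1 := Subgroup.commutator_mem_commutator hx hy
            rw [hn, Subgroup.mem_bot, commutatorElement_eq_one_iff_mul_comm] at h1
            exact hxy h1
      haveI : Fact (Nat.Prime 2) := ⟨Nat.prime_two⟩
      obtain ⟨t, ht⟩ := exists_prime_orderOf_dvd_card' (G := H) 2 hev.two_dvd
      have ht1 : t ≠ 1 := fun e => by rw [e, orderOf_one] at ht; norm_num at ht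
      have hpt : ¬ p ∣ orderOf t := fun hd => hp2 ((Nat.prime_dvd_prime_iff_eq hp Nat.prime_two).mp (ht ▸ hd))
      have hinv : ∀ v, ρ t v = v⁻¹ := fun v => eq_inv_of_mul_eq_one_left <| by
        refine hfpf t ht1 hpt _ ?_
        rw [map_mul, ← MulAut.mul_apply, ← map_mul, ← pow_two, ← ht, pow_orderOf_eq_one, map_one,
          MulAut.one_apply, mul_comm]
      have hcent : ∀ g : H, g * t = t * g := fun g => by
        refine commutatorElement_eq_one_iff_mul_comm.mp (hker _ (MulEquiv.ext fun v => ?_))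
        simp only [commutatorElement_def, map_mul, MulAut.mul_apply, MulAut.one_apply]
        rw [show ρ t⁻¹ = ρ t by rw [inv_eq_of_mul_eq_one_right (show t * t = 1 by
          rw [← pow_two, ← ht, pow_orderOf_eq_one])], hinv, hinv]
        simp
      obtain ⟨x, hx, y, hy, hxy⟩ := hA (Subgroup.zpowers t) ⟨fun n hn g => by
        obtain ⟨i, rfl⟩ := Subgroup.mem_zpowers_iff.mp hn
        rw [← conj_zpow, hcent g, mul_inv_cancel_right]
        exact hn⟩ (by rwa [Subgroup.zpowers_ne_bot])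
      obtain ⟨i, rfl⟩ := Subgroup.mem_zpowers_iff.mp hx
      obtain ⟨k, rfl⟩ := Subgroup.mem_zpowers_iff.mp hy
      exact hxy (zpow_mul_comm t i k)
    obtain ⟨A, hAn, hA1, hAc⟩ := hAb
    obtain ⟨q, hq, hqA⟩ := Nat.exists_prime_and_dvd (n := Nat.card A)
      (fun e => hA1 (Subgroup.card_eq_one.mp e))
    let Q : Subgroup H :=
      { carrier := {x | x ∈ A ∧ x ^ q = 1}
        one_mem' := ⟨one_mem _, one_pow _⟩
        mul_mem' := fun {x y} hx hy => ⟨mul_mem hx.1 hy.1, by
          rw [Commute.mul_pow (hAc x hx.1 y hy.1), hx.2, hy.2, one_mul]⟩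
        inv_mem' := fun {x} hx => ⟨inv_mem hx.1, by rw [inv_pow, hx.2, inv_one]⟩ }
    haveI hQn : Q.Normal :=
      ⟨fun n hn g => ⟨hAn.conj_mem n hn.1 g, by rw [conj_pow, hn.2, mul_one, mul_inv_cancel]⟩⟩
    haveI : Fact q.Prime := ⟨hq⟩
    obtain ⟨x, hx⟩ := exists_prime_orderOf_dvd_card' (G := A) q hqA
    have hx' : orderOf (x : H) = q := by rw [Subgroup.orderOf_coe, hx]
    have hQq : IsPGroup q Q := fun y => ⟨1, Subtype.ext (by rw [pow_one, Subgroup.coe_pow]; exact y.2.2)⟩
    refine ⟨h, Q, x, hh, fun y hy => hQn.conj_mem y hy h,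
      ⟨x.2, by rw [← hx', pow_orderOf_eq_one]⟩,
      fun e => by rw [e, orderOf_one] at hx'; exact hq.ne_one hx'.symm, fun hd => ?_⟩
    obtain ⟨k, hk⟩ := hQq.exists_card_eq
    rw [hk] at hd
    obtain rfl := (Nat.prime_dvd_prime_iff_eq hp hq).mp (hp.dvd_of_dvd_pow hd)
    have := hO Q hQn hQq
    have hxQ : (x : H) ∈ Q := ⟨x.2, by rw [← hx', pow_orderOf_eq_one]⟩
    rw [this, Subgroup.mem_bot] at hxQ
    rw [hxQ, orderOf_one] at hx'
    exact hp.ne_one hx'.symm

end CfsgLib.Perm.Partition
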