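import Cfsg.Agent.Lib.Perm.Partition.Basic
import Cfsg.Agent.Lib.Perm.Partition.Norms
import Cfsg.Agent.Lib.Involution.Basic

/-!
# A normal p-subgroup with fixed-point-free action of the elements of order prime to p

`P0` is the largest normal `p`-subgroup and `Z ≤ P0` a normal subgroup of exponent `p`, central in
`P0`.  Either the group is a Frobenius group, or some `h ∉ P0` with `h ^ p ∈ P0` has a non-trivial
norm on `Z`.
-/

set_option autoImplicit false
set_option linter.style.haveILetI false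

namespace CfsgLib.Perm.Partition

open scoped IsMulCommutative

variable {G : Type*} [Group G] [Finite G]

/-- A `p`-element normalising a subgroup of order divisible by `p` fixes a non-trivial element. -/
theorem exists_fixed {p k : ℕ} [Fact p.Prime] {h : G} (hh : h ^ p ^ k = 1) (U : Subgroup G)
    (hU : ∀ u ∈ U, h * u * h⁻¹ ∈ U) (hpU : p ∣ Nat.card U) : ∃ u ∈ U, u ≠ 1 ∧ Commute h u := by
  classical
  have hU' : ∀ g ∈ Subgroup.zpowers h, ∀ u ∈ U, g * u * g⁻¹ ∈ U := by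
    intro g hg
    obtain ⟨i, hi, rfl⟩ := (mem_powers_iff_mem_zpowers.mpr hg : g ∈ Submonoid.powers h) |>
      fun ⟨i, hi⟩ => (⟨i, trivial, hi⟩ : ∃ i : ℕ, True ∧ h ^ i = g)
    clear hi
    induction i with
    | zero => intro u hu; simpa using hu
    | succ i ih =>
      intro u hu
      have := hU _ (ih (Subgroup.pow_mem _ (Subgroup.mem_zpowers h) i) u hu)
      rw [pow_succ', mul_inv_rev]
      simpa only [mul_assoc] using this
  letI : MulAction (Subgroup.zpowers h) U :=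
    { smul := fun g u => ⟨(g : G) * u * (g : G)⁻¹, hU' g g.2 u u.2⟩
      one_smul := fun u => Subtype.ext (by
        show ((1 : Subgroup.zpowers h) : G) * u * _ = _; simp)
      mul_smul := fun g g' u => Subtype.ext (by
        show ((g * g' : Subgroup.zpowers h) : G) * u * _ = (g : G) * ((g' : G) * u * _) * _
        simp [mul_assoc]) }
  have hP : IsPGroup p (Subgroup.zpowers h) := fun g => ⟨k, Subtype.ext (by
    obtain ⟨i, hi⟩ := Subgroup.mem_zpowers_iff.mp g.2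
    rw [Subgroup.coe_pow, ← hi, ← zpow_natCast, ← zpow_mul, mul_comm, zpow_mul, zpow_natCast, hh,
      one_zpow]; rfl)⟩
  obtain ⟨b, hb, hb1⟩ := hP.exists_fixed_point_of_prime_dvd_card_of_fixed_point U hpU
    (a := 1) (fun g => Subtype.ext (by show (g : G) * 1 * (g : G)⁻¹ = 1; simp))
  refine ⟨b, b.2, fun e => hb1 (Subtype.ext e.symm), ?_⟩
  have e : h * (b : G) * h⁻¹ = b := congrArg Subtype.val (hb ⟨h, Subgroup.mem_zpowers h⟩)
  exact mul_inv_eq_iff_eq_mul.mp e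

/-- A preimage of order prime to `p` of an element of order prime to `p`. -/
theorem exists_lift {p : ℕ} (hp : p.Prime) (N : Subgroup G) [N.Normal] {y : G ⧸ N}
    (hy : ¬ p ∣ orderOf y) : ∃ g : G, (g : G ⧸ N) = y ∧ ¬ p ∣ orderOf g := by
  obtain ⟨g, rfl⟩ := QuotientGroup.mk_surjective y
  obtain ⟨a, m, hm, ho⟩ := Nat.exists_eq_pow_mul_and_not_dvd (orderOf_pos g).ne' p hp.ne_one
  obtain ⟨e, he1, he2⟩ := Nat.chineseRemainder
    ((Nat.Coprime.pow_left a (hp.coprime_iff_not_dvd.mpr hy)) : (p ^ a).Coprime (orderOf (g : G ⧸ N))) 0 1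
  refine ⟨g ^ e, ?_, fun hd => hm (hd.trans ?_)⟩
  · rw [QuotientGroup.mk_pow]
    exact (pow_eq_pow_iff_modEq.mpr he2).trans (pow_one _)
  · refine orderOf_dvd_of_pow_eq_one ?_
    rw [← pow_mul]
    refine orderOf_dvd_iff_pow_eq_one.mp ?_
    rw [ho]
    exact Nat.mul_dvd_mul_right (Nat.modEq_zero_iff_dvd.mp he1) m

/-- Commuting elements of coprime orders of a quotient come from commuting elements. -/
theorem exists_lift_pair {p : ℕ} (hp : p.Prime) (N : Subgroup G) [N.Normal] {h y : G ⧸ N}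
    (hh : orderOf h = p) (hy : y ≠ 1) (hy' : ¬ p ∣ orderOf y) (hc : Commute h y) :
    ∃ h' y' : G, h' ∉ N ∧ h' ^ p ∈ N ∧ (∃ k, h' ^ p ^ k = 1) ∧ y' ∉ N ∧ ¬ p ∣ orderOf y' ∧
      Commute h' y' := by
  obtain ⟨g, hg⟩ := QuotientGroup.mk_surjective (h * y)
  obtain ⟨a, m, hm, ho⟩ := Nat.exists_eq_pow_mul_and_not_dvd (orderOf_pos g).ne' p hp.ne_one
  have hod : orderOf (h * y) = p * orderOf y := by
    rw [hc.orderOf_mul_eq_mul_orderOf_of_coprime (by rw [hh]; exact hp.coprime_iff_not_dvd.mpr hy'), hh]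
  have hdg : p * orderOf y ∣ p ^ a * m := by
    rw [← hod, ← ho, ← hg]; exact orderOf_map_dvd (QuotientGroup.mk' N) g
  have hym : orderOf y ∣ m :=
    (Nat.Coprime.pow_left a (hp.coprime_iff_not_dvd.mpr hy')).symm.dvd_of_dvd_mul_left
      ((Dvd.intro_left _ rfl).trans hdg)
  have hpm : h ^ m ≠ 1 := fun e => hm (hh ▸ orderOf_dvd_of_pow_eq_one e)
  have hpa : y ^ p ^ a ≠ 1 := fun e => by
    have h1 := Nat.dvd_gcd (orderOf_dvd_of_pow_eq_one e) (dvd_refl (orderOf y))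
    rw [Nat.Coprime.gcd_eq_one (Nat.Coprime.pow_left a (hp.coprime_iff_not_dvd.mpr hy'))] at h1
    exact hy (orderOf_eq_one_iff.mp (Nat.dvd_one.mp h1))
  have hqm : ((g ^ m : G) : G ⧸ N) = h ^ m := by
    rw [QuotientGroup.mk_pow, hg, hc.mul_pow, orderOf_dvd_iff_pow_eq_one.mp hym, mul_one]
  have ha : 0 < a := Nat.pos_of_ne_zero fun e => by
    rw [e, pow_zero, one_mul] at hdg
    exact hm ((Dvd.intro _ rfl).trans hdg)
  refine ⟨g ^ m, g ^ p ^ a, fun e => hpm (hqm ▸ (QuotientGroup.eq_one_iff _).mpr e), ?_,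
    ⟨a, ?_⟩, fun e => hpa ?_, fun hd => hm (hd.trans ?_), Commute.pow_pow_self g m (p ^ a)⟩
  · rw [← QuotientGroup.eq_one_iff, QuotientGroup.mk_pow, hqm, ← pow_mul, mul_comm, pow_mul, ← hh,
      pow_orderOf_eq_one, one_pow]
  · rw [← pow_mul, mul_comm, ← ho, pow_orderOf_eq_one]
  · have e' := (QuotientGroup.eq_one_iff _).mpr e
    rw [QuotientGroup.mk_pow, hg, hc.mul_pow] at e'
    rwa [show h ^ p ^ a = 1 by
      rw [← orderOf_dvd_iff_pow_eq_one, hh]; exact dvd_pow_self p ha.ne', one_mul] at e'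
  · rw [orderOf_dvd_iff_pow_eq_one, ← pow_mul, ← ho, pow_orderOf_eq_one]

omit [Finite G] in
/-- The norm of an element in terms of powers. -/
theorem coe_norm {N Z : Subgroup G} [N.Normal] [IsMulCommutative Z] (ρ : G ⧸ N →* MulAut Z)
    (hρ : ∀ (g : G) (v : Z), ((ρ (g : G ⧸ N) v : Z) : G) = g * v * g⁻¹) (g : G) (v : Z)
    (n : ℕ) : ((norm ρ n (g : G ⧸ N) v : Z) : G) = ((v : G) * g) ^ n * (g ^ n)⁻¹ := by
  induction n with
  | zero => simp [norm]
  | succ n ih =>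
    have e : ((norm ρ (n + 1) (g : G ⧸ N) v : Z) : G) =
        ((norm ρ n (g : G ⧸ N) v : Z) : G) * (g ^ n * v * (g ^ n)⁻¹) := by
      rw [norm, Finset.prod_range_succ, Subgroup.coe_mul, ← QuotientGroup.mk_pow, hρ, norm]
    rw [e, ih, pow_succ, pow_succ]
    group

/-- A normal Hall subgroup with fixed-point-free action gives a Frobenius group. -/
theorem frobenius_of_hall (A : Subgroup G) [A.Normal] (h1 : A ≠ ⊥) (h2 : A ≠ ⊤)
    (hco : (Nat.card A).Coprime A.index)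
    (hfix : ∀ g, g ∉ A → (orderOf g).Coprime (Nat.card A) → ∀ u ∈ A, Commute g u → u = 1) :
    ∃ H : Subgroup G, Cfsg.IsFrobeniusComplement H := by
  obtain ⟨H, hH⟩ := Subgroup.exists_right_complement'_of_coprime hco
  have hcard : Nat.card H = A.index := hH.symm.index_eq_card.symm
  have hdis : ∀ x, x ∈ A → x ∈ H → x = 1 := fun x hx hx' =>
    Subgroup.mem_bot.mp (hH.disjoint.eq_bot ▸ Subgroup.mem_inf.mpr ⟨hx, hx'⟩)
  refine ⟨H, fun e => h2 ?_, fun e => h1 ?_, fun g hg => eq_bot_iff.mpr fun x hx => ?_⟩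
  · rw [← Subgroup.index_eq_one, ← hcard, e, Subgroup.card_bot]
  · exact eq_bot_iff.mpr fun x hx => Subgroup.mem_bot.mpr (hdis x hx (e ▸ Subgroup.mem_top x))
  obtain ⟨hxH, hxg⟩ := Subgroup.mem_inf.mp hx
  rw [Subgroup.mem_bot]
  by_contra hx1
  obtain ⟨⟨a, k⟩, hak⟩ := hH.2 g
  have hak' : (a : G) * k = g := hak
  obtain ⟨w, hw, hwx⟩ := hxg
  have hwx' : g * w * g⁻¹ = x := hwx
  set w' := (k : G) * w * (k : G)⁻¹ with hw'
  have hw'H : w' ∈ H := mul_mem (mul_mem k.2 hw) (inv_mem k.2)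
  have hax : (a : G) * w' * (a : G)⁻¹ = x := by
    rw [← hwx', ← hak', hw']; group
  have hcomm : (a : G) * w' * (a : G)⁻¹ * w'⁻¹ = 1 :=
    hdis _ (by
      rw [mul_assoc, mul_assoc, ← mul_assoc w']
      exact mul_mem a.2 (‹A.Normal›.conj_mem _ (inv_mem a.2) w'))
      (mul_mem (hax ▸ hxH) (inv_mem hw'H))
  have hw1 : w' ≠ 1 := fun e => hx1 (by rw [← hax, e]; simp)
  have ha : (a : G) = 1 := hfix w' (fun e => hw1 (hdis _ e hw'H))
    (Nat.Coprime.coprime_dvd_left (H.orderOf_dvd_natCard hw'H) (by rw [hcard]; exact hco.symm))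
    a a.2 (mul_inv_eq_iff_eq_mul.mp (mul_inv_eq_one.mp hcomm)).symm
  exact hg (by rw [← hak', ha, one_mul]; exact k.2)

/-- The conjugation action on a normal subgroup centralised by `N`. -/
theorem exists_action (N Z : Subgroup G) [N.Normal] [Z.Normal]
    (hc : ∀ x ∈ N, ∀ z ∈ Z, Commute x z) :
    ∃ ρ : G ⧸ N →* MulAut Z, ∀ (g : G) (v : Z), ((ρ (g : G ⧸ N) v : Z) : G) = g * v * g⁻¹ := by
  refine ⟨QuotientGroup.lift N (MulAut.conjNormal (H := Z)) fun x hx => MonoidHom.mem_ker.mpr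
    (MulEquiv.ext fun z => Subtype.ext ?_), fun g v => ?_⟩
  · rw [MulAut.conjNormal_apply]
    exact mul_inv_eq_iff_eq_mul.mpr (hc x hx z z.2).eq
  · rw [QuotientGroup.lift_mk, MulAut.conjNormal_apply]

/-- The dichotomy. -/
theorem frobenius_or_norm {p : ℕ} (hp : p.Prime) (P0 : Subgroup G) [P0.Normal] (hP : IsPGroup p P0)
    (hmax : ∀ N : Subgroup G, N.Normal → IsPGroup p N → N ≤ P0) (hnt : P0 ≠ ⊤) (Z : Subgroup G)
    [Z.Normal] (hZP : Z ≤ P0) (hZ1 : Z ≠ ⊥) (hZp : ∀ z ∈ Z, z ^ p = 1)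
    (hZc : ∀ z ∈ Z, ∀ x ∈ P0, Commute x z)
    (hfix : ∀ y : G, y ≠ 1 → ¬ p ∣ orderOf y → ∀ z ∈ Z, Commute y z → z = 1)
    (hfixP : ∀ y : G, y ≠ 1 → ¬ p ∣ orderOf y → ∀ x ∈ P0, Commute y x → x = 1)
    (hpq : ∀ h y : G, h ∉ P0 → h ^ p ∈ P0 → (∃ k, h ^ p ^ k = 1) → y ≠ 1 → ¬ p ∣ orderOf y →
      ¬ Commute h y) :
    (∃ H : Subgroup G, Cfsg.IsFrobeniusComplement H) ∨
      ∃ h : G, h ∉ P0 ∧ h ^ p ∈ P0 ∧ (∃ k, h ^ p ^ k = 1) ∧
        ∃ v ∈ Z, (v * h) ^ p ≠ h ^ p := by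
  classical
  haveI : Fact p.Prime := ⟨hp⟩
  by_cases hdvd : p ∣ P0.index
  · refine Or.inr ?_
    haveI : IsMulCommutative Z := ⟨⟨fun u w => Subtype.ext (hZc w w.2 u (hZP u.2)).eq⟩⟩
    obtain ⟨ρ, hρ⟩ := exists_action P0 Z fun x hx z hz => hZc z hz x hx
    obtain ⟨z₀, hz₀, hz₁⟩ := Z.bot_or_exists_ne_one.resolve_left hZ1
    obtain ⟨h, hh, v, hv⟩ := exists_norm (p := p) ρ hp (fun v => Subtype.ext (hZp v v.2))
      (v₀ := ⟨z₀, hz₀⟩) (fun e => hz₁ (congrArg Subtype.val e))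
      (fun y hy hy' v hv => by
        obtain ⟨g, rfl, hg⟩ := exists_lift hp P0 hy'
        refine Subtype.ext (hfix g (fun e => hy (by rw [e]; rfl)) hg v v.2 ?_)
        exact mul_inv_eq_iff_eq_mul.mp ((hρ g v).symm.trans (congrArg Subtype.val hv)))
      (fun h y hh hy hy' hc => by
        obtain ⟨h', y', h1, h2, h3, h4, h5, h6⟩ := exists_lift_pair hp P0 hh hy hy' hc
        exact hpq h' y' h1 h2 h3 (fun e => h4 (e ▸ one_mem _)) h5 h6)
      (fun N hN hNp => by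
        have hle : N.comap (QuotientGroup.mk' P0) ≤ P0 := by
          refine hmax _ inferInstance ?_
          refine hNp.comap_of_ker_isPGroup _ ?_
          rw [QuotientGroup.ker_mk']
          exact hP
        refine eq_bot_iff.mpr fun y hy => ?_
        obtain ⟨g, rfl⟩ := QuotientGroup.mk_surjective y
        exact Subgroup.mem_bot.mpr ((QuotientGroup.eq_one_iff g).mpr (hle hy)))
      (by rwa [← Subgroup.index_eq_card])
    obtain ⟨g, rfl⟩ := QuotientGroup.mk_surjective h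
    obtain ⟨a, m, hm, ho⟩ := Nat.exists_eq_pow_mul_and_not_dvd (orderOf_pos g).ne' p hp.ne_one
    obtain ⟨e, he1, he2⟩ := Nat.chineseRemainder
      ((hp.coprime_iff_not_dvd.mpr hm).symm : m.Coprime p) 0 1
    have hge : ((g ^ e : G) : G ⧸ P0) = (g : G ⧸ P0) := by
      rw [QuotientGroup.mk_pow]
      exact (pow_eq_pow_iff_modEq.mpr (by rwa [hh])).trans (pow_one _)
    refine ⟨g ^ e, fun hm' => ?_, ?_, ⟨a, ?_⟩, v, v.2, fun he => hv ?_⟩
    · rw [← QuotientGroup.eq_one_iff, hge] at hm'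
      rw [hm', orderOf_one] at hh
      exact hp.ne_one hh.symm
    · rw [← QuotientGroup.eq_one_iff, QuotientGroup.mk_pow, hge, ← hh, pow_orderOf_eq_one]
    · rw [← pow_mul, ← orderOf_dvd_iff_pow_eq_one, ho, mul_comm]
      exact Nat.mul_dvd_mul_right (Nat.modEq_zero_iff_dvd.mp he1) _
    · refine Subtype.ext ?_
      rw [← hge, coe_norm ρ hρ, he, mul_inv_cancel]
      rfl
  · refine Or.inl (frobenius_of_hall P0 ?_ hnt ?_ fun g hg hgo u hu hc => ?_)
    · exact fun e => hZ1 (eq_bot_iff.mpr (e ▸ hZP))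
    · obtain ⟨k, hk⟩ := hP.exists_card_eq
      rw [hk]
      exact Nat.Coprime.pow_left k (hp.coprime_iff_not_dvd.mpr hdvd)
    · refine hfixP g (fun e => hg (e ▸ one_mem _)) (fun hd => ?_) u hu hc
      obtain ⟨k, hk⟩ := hP.exists_card_eq
      obtain ⟨z₀, hz₀, hz₁⟩ := Z.bot_or_exists_ne_one.resolve_left hZ1
      have hk0 : k ≠ 0 := fun e => hz₁ (by
        rw [e, pow_zero, Subgroup.card_eq_one] at hk
        exact Subgroup.mem_bot.mp (hk ▸ hZP hz₀))
      exact hp.ne_one (Nat.dvd_one.mp (hgo ▸ Nat.dvd_gcd hd (hk ▸ dvd_pow_self p hk0)))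

end CfsgLib.Perm.Partition
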