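import Cfsg.Agent.Lib.Perm.Partition.Basic
import Cfsg.Agent.Lib.Perm.FrobSystem.Action
import Cfsg.Agent.Lib.Perm.ZGroup.SuzukiUnique.Classify
import Cfsg.Agent.Lib.Involution.ZStar.Corollaries
import Cfsg.Agent.Lib.Solvable.FrattiniFitting
import Cfsg.Agent.S0205

/-!
Tools for groups with a partition and without solvable normal subgroups.
-/

set_option autoImplicit false
set_option linter.style.haveILetI false

namespace CfsgLib.Perm.Partition

variable {G : Type*} [Group G]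

theorem mul_self_of_two {t : G} (ht : orderOf t = 2) : t * t = 1 := by
  rw [← pow_two, ← ht, pow_orderOf_eq_one]

theorem ne_one_of_two {t : G} (ht : orderOf t = 2) : t ≠ 1 := fun e => by
  rw [e, orderOf_one] at ht
  norm_num at ht

theorem inv_of_two {t : G} (ht : orderOf t = 2) : t⁻¹ = t :=
  inv_eq_of_mul_eq_one_right (mul_self_of_two ht)

theorem orderOf_conj (g x : G) : orderOf (g * x * g⁻¹) = orderOf x :=
  MulEquiv.orderOf_eq (MulAut.conj g) x

theorem not_solvable [Nontrivial G]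
    (hR : ∀ N : Subgroup G, N.Normal → Group.IsSolvable N → N = ⊥) : ¬ Group.IsSolvable G :=
  fun h => by
    haveI := h
    have := hR ⊤ inferInstance inferInstance
    obtain ⟨x, hx⟩ := exists_ne (1 : G)
    exact hx (Subgroup.mem_bot.1 (this ▸ Subgroup.mem_top x))

theorem even_card [Finite G] [Nontrivial G]
    (hR : ∀ N : Subgroup G, N.Normal → Group.IsSolvable N → N = ⊥) : 2 ∣ Nat.card G :=
  even_iff_two_dvd.1 (Nat.not_odd_iff_even.1 fun ho => not_solvable hR (Cfsg.Agent.S0205.result ho))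

/-- Two commuting involutions. -/
theorem exists_commuting [Finite G] [Nontrivial G]
    (hR : ∀ N : Subgroup G, N.Normal → Group.IsSolvable N → N = ⊥) :
    ∃ x y : G, orderOf x = 2 ∧ orderOf y = 2 ∧ x ≠ y ∧ Commute x y := by
  by_contra hc
  obtain ⟨z, -, hz⟩ := CfsgLib.Involution.Basic.exists_involution_of_even (⊤ : Subgroup G)
    (by rw [Subgroup.card_top]; exact even_iff_two_dvd.2 (even_card hR))
  have hiso : Cfsg.IsIsolatedInvolution z := ⟨hz, fun g hg => by
    by_contra hne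
    exact hc ⟨z, g * z * g⁻¹, hz, (orderOf_conj g z).trans hz, Ne.symm hne, hg⟩⟩
  haveI := CfsgLib.Involution.ZStar.oddCore_normal (G := G)
  have hO : Cfsg.oddCore G = ⊥ :=
    hR _ inferInstance (Cfsg.Agent.S0205.result CfsgLib.Involution.ZStar.odd_card_oddCore)
  have hcen : ∀ g : G, z * g = g * z := fun g => by
    obtain ⟨o, ho, c, hcc, rfl⟩ := CfsgLib.Involution.ZStar.exists_oddCore_mul_centralizer
      (CfsgLib.Involution.ZStar.starCentral G) hiso g
    rw [hO, Subgroup.mem_bot] at ho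
    rw [ho, one_mul]
    exact (Subgroup.mem_centralizer_singleton_iff.mp hcc).symm
  refine ne_one_of_two hz (Subgroup.mem_bot.mp ((hR (Subgroup.zpowers z) ⟨fun n hn g => ?_⟩
    inferInstance) ▸ Subgroup.mem_zpowers z))
  obtain ⟨i, rfl⟩ := Subgroup.mem_zpowers_iff.mp hn
  rw [← conj_zpow, ← hcen g, mul_inv_cancel_right]
  exact hn

/-- A group with a Frobenius-like pair of even kernel is `PSL(2, q)` or a Suzuki group. -/
theorem of_sys [Finite G] [Nontrivial G] {M F : Subgroup G} (h : CfsgLib.Perm.FrobSystem.Sys M F)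
    (h2 : 2 ∣ Nat.card F) (hR : ∀ N : Subgroup G, N.Normal → Group.IsSolvable N → N = ⊥) :
    (∃ (K : Type) (_ : Field K) (_ : Fintype K), 4 ≤ Fintype.card K ∧
        Nonempty (G ≃* Matrix.ProjectiveSpecialLinearGroup (Fin 2) K)) ∨ Cfsg.Lie.IsoSuzuki G := by
  obtain ⟨hsimple, b, S, -⟩ := CfsgLib.Perm.FrobSystem.exists_setup h h2 (exists_commuting hR) hR
  haveI := hsimple
  rcases CfsgLib.Perm.ZGroup.psl_or_isoSuzuki S.hZ with ⟨K, iK, iKt, ⟨e⟩⟩ | hS
  · exact Or.inl ⟨K, iK, iKt, CfsgLib.Perm.ZGroup.three_lt_of_simple_psl e, ⟨e⟩⟩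
  · exact Or.inr hS

/-- In a nilpotent subgroup a Sylow 2-subgroup of the group contains every 2-element. -/
theorem mem_sylow_of_nilpotent [Finite G] {A : Subgroup G} [Group.IsNilpotent A] (S : Sylow 2 G)
    (hSA : (S : Subgroup G) ≤ A) {a : G} (ha : a ∈ A) {k : ℕ} (hk : a ^ 2 ^ k = 1) :
    a ∈ (S : Subgroup G) := by
  haveI : Fact (Nat.Prime 2) := ⟨Nat.prime_two⟩
  let T : Sylow 2 A := S.subtype hSA
  haveI hTn : (T : Subgroup A).Normal :=
    T.normal_of_normalizerCondition Group.normalizerCondition_of_isNilpotent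
  have hp : IsPGroup 2 (Subgroup.zpowers (⟨a, ha⟩ : A)) := by
    obtain ⟨i, -, hi⟩ := (Nat.dvd_prime_pow Nat.prime_two).1 (orderOf_dvd_of_pow_eq_one
      (Subtype.ext hk : (⟨a, ha⟩ : A) ^ 2 ^ k = 1))
    exact IsPGroup.of_card (n := i) (by rw [Nat.card_zpowers, hi])
  obtain ⟨T', hT'⟩ := hp.exists_le_sylow
  haveI := Sylow.unique_of_normal T hTn
  have := hT' (Subgroup.mem_zpowers _)
  rw [Subsingleton.elim T' T] at this
  exact this

/-- A non-trivial central element of prime order. -/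
theorem exists_central_of_prime [Finite G] {A : Subgroup G} [Group.IsNilpotent A] {q : ℕ}
    [Fact q.Prime] (hq : q ∣ Nat.card A) :
    ∃ c ∈ A, c ^ q = 1 ∧ c ≠ 1 ∧ ∀ a ∈ A, a * c = c * a := by
  obtain ⟨T⟩ : Nonempty (Sylow q A) := inferInstance
  haveI : (T : Subgroup A).Normal :=
    T.normal_of_normalizerCondition Group.normalizerCondition_of_isNilpotent
  have hT : (T : Subgroup A) ≠ ⊥ := fun e => T.not_dvd_index (by rwa [e, Subgroup.index_bot])
  obtain ⟨x, hx, hx1⟩ := (Subgroup.bot_or_exists_ne_one _).resolve_left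
    (CfsgLib.Solvable.FrattiniFitting.inf_center_ne_bot (T : Subgroup A) hT)
  obtain ⟨hxT, hxZ⟩ := Subgroup.mem_inf.1 hx
  obtain ⟨i, hi⟩ := T.isPGroup' ⟨x, hxT⟩
  have hi' : x ^ q ^ i = 1 := congrArg Subtype.val hi
  obtain ⟨j, -, hj⟩ := (Nat.dvd_prime_pow Fact.out).1 (orderOf_dvd_of_pow_eq_one hi')
  have hj0 : j ≠ 0 := fun e => hx1 (orderOf_eq_one_iff.1 (by rw [hj, e, pow_zero]))
  set c := x ^ (orderOf x / q)
  have hc : orderOf c = q := orderOf_pow_orderOf_div (orderOf_pos x).ne' (hj ▸ dvd_pow_self q hj0)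
  refine ⟨c, c.2, congrArg Subtype.val (hc ▸ pow_orderOf_eq_one c), fun e => ?_, fun a ha => ?_⟩
  · rw [← Subgroup.orderOf_coe, e, orderOf_one] at hc
    exact (Fact.out : q.Prime).ne_one hc.symm
  · exact congrArg Subtype.val
      (Subgroup.mem_center_iff.1 (Subgroup.pow_mem _ hxZ _) (⟨a, ha⟩ : A))

/-- Involutions fixing one point and involutions exchanging two points are equinumerous. -/
theorem card_fix_eq_card_swap [Finite G] {M : Subgroup G}
    (huniq : ∀ s : G, orderOf s = 2 → ∀ x y : G ⧸ M, s • x = x → s • y = y → x = y)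
    (h2 : MulAction.IsMultiplyPretransitive G (G ⧸ M) 2) (hodd : ¬ 2 ∣ M.index) {b : G ⧸ M}
    (hb : b ≠ ((1 : G) : G ⧸ M)) :
    Nat.card {s : {s : G // orderOf s = 2} // (s : G) • ((1 : G) : G ⧸ M) = ((1 : G) : G ⧸ M)} =
      Nat.card {s : {s : G // orderOf s = 2} // (s : G) • ((1 : G) : G ⧸ M) = b} := by
  classical
  haveI : Fact (Nat.Prime 2) := ⟨Nat.prime_two⟩
  letI := Fintype.ofFinite (G ⧸ M)
  letI := Fintype.ofFinite G
  set pt : G ⧸ M := ((1 : G) : G ⧸ M)
  let I := {s : G // orderOf s = 2}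
  set n := Fintype.card (G ⧸ M) with hn
  set j := Nat.card {s : I // (s : G) • pt = pt}
  set k := Nat.card {s : I // (s : G) • pt = b}
  have hfix : ∀ s : I, ∃ x : G ⧸ M, (s : G) • x = x := by
    intro s
    obtain ⟨w, hw⟩ :=
      (CfsgLib.Involution.Basic.isPGroup_zpowers_of_two s.2).nonempty_fixed_point_of_prime_not_dvd_card
        (G ⧸ M) (by rwa [← Subgroup.index_eq_card])
    exact ⟨w, hw ⟨_, Subgroup.mem_zpowers _⟩⟩
  have hconj : ∀ (g : G) (s : I), orderOf (g * s.1 * g⁻¹) = 2 := fun g s =>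
    (orderOf_conj g s.1).trans s.2
  have hmove : ∀ (g : G) (x y : G ⧸ M), Nat.card {s : I // (s : G) • x = y} =
      Nat.card {s : I // (s : G) • (g • x) = g • y} := fun g x y => Nat.card_congr
    { toFun := fun s => ⟨⟨g * s.1.1 * g⁻¹, hconj g s.1⟩, by
        show (g * s.1.1 * g⁻¹) • g • x = g • y
        rw [mul_smul, mul_smul, inv_smul_smul, s.2]⟩
      invFun := fun s => ⟨⟨g⁻¹ * s.1.1 * g⁻¹⁻¹, hconj g⁻¹ s.1⟩, by
        show (g⁻¹ * s.1.1 * g⁻¹⁻¹) • x = y
        rw [inv_inv, mul_smul, mul_smul, s.2, inv_smul_smul]⟩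
      left_inv := fun s => Subtype.ext (Subtype.ext (by simp [mul_assoc]))
      right_inv := fun s => Subtype.ext (Subtype.ext (by simp [mul_assoc])) }
  have htot : Nat.card I = n * j := by
    have e : (Σ x : G ⧸ M, {s : I // (s : G) • x = x}) ≃ I :=
      Equiv.ofBijective (fun p => p.2.1) ⟨fun p q e => by
        obtain ⟨x, s, hs⟩ := p
        obtain ⟨y, t, ht⟩ := q
        obtain rfl : s = t := e
        obtain rfl := huniq s s.2 x y hs ht
        rfl, fun s => by
        obtain ⟨x, hx⟩ := hfix s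
        exact ⟨⟨x, s, hx⟩, rfl⟩⟩
    rw [← Nat.card_congr e, Nat.card_sigma, Finset.sum_congr rfl fun x _ => ?_, Finset.sum_const,
      Finset.card_univ, smul_eq_mul]
    obtain ⟨g, hg⟩ := CfsgLib.Perm.FrobSystem.exists_move x
    rw [← hg]
    exact (hmove g pt pt).symm
  let T := {p : I × (G ⧸ M) // (p.1 : G) • p.2 ≠ p.2}
  have eA : T ≃ Σ s : I, {x : G ⧸ M // (s : G) • x ≠ x} :=
    { toFun := fun p => ⟨p.1.1, p.1.2, p.2⟩
      invFun := fun p => ⟨(p.1, p.2.1), p.2.2⟩
      left_inv := fun _ => rfl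
      right_inv := fun _ => rfl }
  have hA : Nat.card T = Nat.card I * (n - 1) := by
    rw [Nat.card_congr eA, Nat.card_sigma, Finset.sum_congr rfl fun s _ => ?_, Finset.sum_const,
      Finset.card_univ, smul_eq_mul, Nat.card_eq_fintype_card]
    obtain ⟨x₀, hx₀⟩ := hfix s
    rw [Nat.card_congr (Equiv.subtypeEquivRight (q := fun x => x ≠ x₀) fun x =>
      ⟨fun hx e => hx (e ▸ hx₀), fun hx e => hx (huniq s s.2 x x₀ e hx₀)⟩),
      Nat.card_eq_fintype_card, Fintype.card_subtype_compl, Fintype.card_subtype_eq, ← hn]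
  have eB : T ≃ Σ q : {q : (G ⧸ M) × (G ⧸ M) // q.1 ≠ q.2}, {s : I // (s : G) • q.1.1 = q.1.2} :=
    { toFun := fun p => ⟨⟨(p.1.2, (p.1.1 : G) • p.1.2), fun e => p.2 e.symm⟩, p.1.1, rfl⟩
      invFun := fun p => ⟨(p.2.1, p.1.1.1), fun e => p.1.2 (e.symm.trans p.2.2)⟩
      left_inv := fun _ => rfl
      right_inv := fun p => by
        obtain ⟨⟨⟨x, y⟩, hxy⟩, s, (hs : (s : G) • x = y)⟩ := p
        subst hs
        rfl }
  have hB : Nat.card T = n * (n - 1) * k := by
    rw [Nat.card_congr eB, Nat.card_sigma, Finset.sum_congr rfl fun q _ => ?_, Finset.sum_const,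
      Finset.card_univ, smul_eq_mul]
    · congr 1
      rw [Fintype.card_subtype, hn, Nat.mul_sub_one, ← Finset.card_univ, ← Finset.offDiag_card]
      congr 1
      ext ⟨x, y⟩
      simp
    · obtain ⟨g, h1, h2'⟩ := MulAction.is_two_pretransitive_iff.mp h2 (Ne.symm hb) q.2
      rw [← h1, ← h2']
      exact (hmove g pt b).symm
  rw [hA, htot, mul_assoc, mul_comm j, ← mul_assoc] at hB
  have h5 : 1 < n := Fintype.one_lt_card_iff.mpr ⟨b, pt, hb⟩
  exact Nat.eq_of_mul_eq_mul_left (mul_pos (by omega) (by omega)) hB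

end CfsgLib.Perm.Partition
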