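import Cfsg.Agent.Lib.Perm.Partition.Alpha
import Cfsg.Agent.Lib.Perm.Partition.Dihedral
import Cfsg.Agent.Lib.Involution.StronglyEmbedded

/-!
Groups with a partition and without solvable normal subgroups.
-/

set_option autoImplicit false
set_option linter.style.haveILetI false

namespace CfsgLib.Perm.Partition

variable {G : Type*} [Group G] [Finite G]

/-- All elements commuting with `t` square to one. -/
def Elem2 (t : G) : Prop := ∀ c : G, c * t = t * c → c * c = 1

omit [Finite G] in
theorem Elem2.comm {t : G} (h : Elem2 t) {a b : G} (ha : a * t = t * a) (hb : b * t = t * b) :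
    a * b = b * a := by
  have hab := h (a * b) (by rw [mul_assoc, hb, ← mul_assoc, ha, mul_assoc])
  have h1 := inv_eq_of_mul_eq_one_right hab
  rwa [mul_inv_rev, inv_eq_of_mul_eq_one_right (h a ha), inv_eq_of_mul_eq_one_right (h b hb),
    eq_comm] at h1

omit [Finite G] in
theorem Elem2.conj {t : G} (h : Elem2 t) (g : G) : Elem2 (g * t * g⁻¹) := by
  intro c hc
  have hc' := h (g⁻¹ * c * g) (by
    calc g⁻¹ * c * g * t = g⁻¹ * (c * (g * t * g⁻¹)) * g := by group
      _ = g⁻¹ * ((g * t * g⁻¹) * c) * g := by rw [hc]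
      _ = _ := by group)
  calc c * c = g * (g⁻¹ * c * g * (g⁻¹ * c * g)) * g⁻¹ := by group
    _ = 1 := by rw [hc']; group

omit [Finite G] in
theorem div_mem {D : Subgroup G} {a b y : G} (ha : a * y ∈ D) (hb : b * y ∈ D) : a * b⁻¹ ∈ D := by
  have := D.mul_mem ha (D.inv_mem hb)
  rwa [show a * y * (b * y)⁻¹ = a * b⁻¹ by group] at this

/-- An element commuting with an involution lies in its member or squares to one. -/
theorem mem_or_sq (P : Part G) {t c : G} (ht : orderOf t = 2) (hc : c * t = t * c) :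
    c ∈ P.comp t ∨ c * c = 1 := by
  refine or_iff_not_imp_left.2 fun hcA => ?_
  have hc1 : c ≠ 1 := fun e => hcA (e ▸ one_mem _)
  exact mul_self_of_two ((P.prime_orderOf (ne_one_of_two ht) hc1 hcA
    (show Commute t c from hc.symm)).2.trans ht)

/-- The elements outside the member invert the rest of the centraliser. -/
theorem inverts (P : Part G) {t y d : G} (ht : orderOf t = 2) (hy : y * t = t * y)
    (hyA : y ∉ P.comp t) (hdA : d ∈ P.comp t) (hd : d * t = t * d) : y * d * y⁻¹ = d⁻¹ := by
  have h1 := (mem_or_sq P ht hy).resolve_left hyA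
  have h2 := (mem_or_sq P ht (show y * d * t = t * (y * d) by
    rw [mul_assoc, hd, ← mul_assoc, hy, mul_assoc])).resolve_left
    fun h => hyA (by simpa using mul_mem h (inv_mem hdA))
  rw [inv_eq_of_mul_eq_one_right h1, eq_inv_iff_mul_eq_one, mul_assoc]
  exact h2

theorem comm_in (P : Part G) {t y a b : G} (ht : orderOf t = 2) (hy : y * t = t * y)
    (hyA : y ∉ P.comp t) (haA : a ∈ P.comp t) (ha : a * t = t * a) (hbA : b ∈ P.comp t)
    (hb : b * t = t * b) : a * b = b * a := by
  have hab := inverts P ht hy hyA (mul_mem haA hbA) (show a * b * t = t * (a * b) by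
    rw [mul_assoc, hb, ← mul_assoc, ha, mul_assoc])
  rw [show y * (a * b) * y⁻¹ = y * a * y⁻¹ * (y * b * y⁻¹) by group, inverts P ht hy hyA haA ha,
    inverts P ht hy hyA hbA hb, mul_inv_rev] at hab
  have := congrArg Inv.inv hab
  simpa [mul_inv_rev] using this.symm

/-- The two kinds of centralisers. -/
theorem elem_or_index_two (P : Part G) {t y : G} (ht : orderOf t = 2) (hy : y * t = t * y)
    (hyA : y ∉ P.comp t) :
    Elem2 t ∨ ∀ c : G, c * t = t * c → c ∈ P.comp t ∨ c * y ∈ P.comp t := by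
  refine or_iff_not_imp_right.2 fun h => ?_
  push Not at h
  obtain ⟨c, hc, hcA, hcyA⟩ := h
  have hcy : c * y * t = t * (c * y) := by rw [mul_assoc, hy, ← mul_assoc, hc, mul_assoc]
  intro d hd
  refine (mem_or_sq P ht hd).elim (fun hdA => ?_) id
  have h1 := inverts P ht hcy hcyA hdA hd
  have h2 := inverts P ht hc hcA (inv_mem hdA) (show d⁻¹ * t = t * d⁻¹ from
    ((show Commute d t from hd).inv_left).eq)
  rw [show c * y * d * (c * y)⁻¹ = c * (y * d * y⁻¹) * c⁻¹ by group, inverts P ht hy hyA hdA hd, h2,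
    inv_inv] at h1
  calc d * d = d⁻¹ * d := by rw [← h1]
    _ = 1 := inv_mul_cancel d

/-- Two commuting involutions of a subgroup containing a Sylow 2-subgroup move into it. -/
theorem exists_conj_pair {M : Subgroup G} (S : Sylow 2 G) (hSM : (S : Subgroup G) ≤ M) {a b : G}
    (ha : a ∈ M) (hb : b ∈ M) (hao : orderOf a = 2) (hbo : orderOf b = 2) (hab : Commute a b) :
    ∃ m ∈ M, m * a * m⁻¹ ∈ (S : Subgroup G) ∧ m * b * m⁻¹ ∈ (S : Subgroup G) := by
  obtain ⟨m, h1, h2⟩ := CfsgLib.Involution.Basic.exists_conj_pair_mem (S.subtype hSM)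
    (x := (⟨a, ha⟩ : M)) (y := ⟨b, hb⟩) (by rw [Subgroup.orderOf_mk, hao])
    (by rw [Subgroup.orderOf_mk, hbo]) (Subtype.ext hab.eq)
  exact ⟨m, m.2, h1, h2⟩

theorem exists_conj_involution {M : Subgroup G} (S : Sylow 2 G) (hSM : (S : Subgroup G) ≤ M) {a : G}
    (ha : a ∈ M) (hao : orderOf a = 2) : ∃ m ∈ M, m * a * m⁻¹ ∈ (S : Subgroup G) := by
  obtain ⟨m, hm, h, -⟩ := exists_conj_pair S hSM ha ha hao hao (Commute.refl a)
  exact ⟨m, hm, h⟩

/-- A subgroup containing a Sylow 2-subgroup and all elements fusing its involutions makes all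
involutions conjugate. -/
theorem all_conj_of_fusion {M : Subgroup G} (hM : M ≠ ⊤) (S : Sylow 2 G)
    (hSM : (S : Subgroup G) ≤ M) (hS : 2 ∣ Nat.card (S : Subgroup G))
    (hfus : ∀ h s : G, s ∈ (S : Subgroup G) → orderOf s = 2 → h * s * h⁻¹ ∈ (S : Subgroup G) → h ∈ M)
    {a b : G} (ha : orderOf a = 2) (hb : orderOf b = 2) : IsConj a b := by
  have hSE : Cfsg.IsStronglyEmbedded M := by
    refine ⟨hM, even_iff_two_dvd.2 (hS.trans (Subgroup.card_dvd_of_le hSM)), fun g hg => ?_⟩
    rw [← Nat.not_even_iff_odd]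
    intro he
    obtain ⟨t, htD, ht⟩ := CfsgLib.Involution.Basic.exists_involution_of_even _ he
    obtain ⟨s, hs, hst⟩ := htD.2
    have hst' : g * s * g⁻¹ = t := hst
    have hso : orderOf s = 2 := by rw [← orderOf_conj g s, hst', ht]
    obtain ⟨m₁, hm₁, h1⟩ := exists_conj_involution S hSM htD.1 ht
    obtain ⟨m₂, hm₂, h2⟩ := exists_conj_involution S hSM hs hso
    have hh := hfus (m₁ * g * m₂⁻¹) (m₂ * s * m₂⁻¹) h2 ((orderOf_conj m₂ s).trans hso) (by
      rw [show m₁ * g * m₂⁻¹ * (m₂ * s * m₂⁻¹) * (m₁ * g * m₂⁻¹)⁻¹ = m₁ * (g * s * g⁻¹) * m₁⁻¹ by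
        group, hst']
      exact h1)
    refine hg ?_
    have := mul_mem (mul_mem (inv_mem hm₁) hh) hm₂
    rwa [show m₁⁻¹ * (m₁ * g * m₂⁻¹) * m₂ = g by group] at this
  exact CfsgLib.Involution.SE.all_conj hSE ha hb

variable [Nontrivial G]

/-- The case in which no member has two commuting involutions. -/
theorem dihedral_final (P : Part G) (hN : P.NSN)
    (hR : ∀ N : Subgroup G, N.Normal → Group.IsSolvable N → N = ⊥)
    (hpair : ∀ u v : G, orderOf u = 2 → orderOf v = 2 → u ≠ v → u * v = v * u → v ∉ P.comp u)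
    (hthree : ∀ t a b : G, orderOf t = 2 → orderOf a = 2 → orderOf b = 2 → t ≠ a → t * a = a * t →
      t * b = b * t → a * b = b * a → b = t ∨ b = a ∨ b = t * a)
    (hex : ∀ t : G, orderOf t = 2 → ∃ y, orderOf y = 2 ∧ y ≠ t ∧ y * t = t * y) :
    (∃ (F : Type) (_ : Field F) (_ : Fintype F), 4 ≤ Fintype.card F ∧
        Nonempty (G ≃* Matrix.ProjectiveSpecialLinearGroup (Fin 2) F)) ∨
    (∃ (F : Type) (_ : Field F) (_ : Fintype F), 5 ≤ Fintype.card F ∧ Odd (Fintype.card F) ∧
        Nonempty (G ≃* (GL (Fin 2) F ⧸ Subgroup.center (GL (Fin 2) F)))) := by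
  refine psl_or_pgl_of_dihedral hR (fun t ht => ?_) (fun t y g ht hy hy1 hodd hgy => ?_)
  · obtain ⟨y, hy, hyt, hyc⟩ := hex t ht
    have hyA : y ∉ P.comp t := hpair t y ht hy (Ne.symm hyt) hyc.symm
    set D := P.comp t ⊓ Subgroup.centralizer ({t} : Set G) with hD
    have hmem : ∀ x ∈ D, x ∈ P.comp t ∧ x * t = t * x := fun x hx =>
      ⟨hx.1, Subgroup.mem_centralizer_singleton_iff.1 hx.2⟩
    have hmk : ∀ x, x ∈ P.comp t → x * t = t * x → x ∈ D := fun x h1 h2 =>
      ⟨h1, Subgroup.mem_centralizer_singleton_iff.2 h2⟩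
    have htD : t ∈ D := hmk t (P.mem t (ne_one_of_two ht)) rfl
    refine ⟨D, inf_le_right, htD, fun a ha b hb => comm_in P ht hyc hyA (hmem a ha).1 (hmem a ha).2
      (hmem b hb).1 (hmem b hb).2, fun x hx hxx => ?_, y,
      Subgroup.mem_centralizer_singleton_iff.2 hyc, fun h => hyA h.1, mul_self_of_two hy,
      fun x hx => inverts P ht hyc hyA (hmem x hx).1 (hmem x hx).2, fun c hc => ?_⟩
    · refine or_iff_not_imp_left.2 fun hx1 => ?_
      by_contra hxt
      exact hpair t x ht (orderOf_eq_prime (by rw [pow_two, hxx]) hx1) (Ne.symm hxt)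
        (hmem x hx).2.symm (hmem x hx).1
    · have hc' : c * t = t * c := Subgroup.mem_centralizer_singleton_iff.1 hc
      have key : c ∈ P.comp t ∨ c * y ∈ P.comp t := by
        rcases elem_or_index_two P ht hyc hyA with he | h
        · by_cases hc1 : c = 1
          · exact Or.inl (hc1 ▸ one_mem _)
          rcases hthree t y c ht hy (orderOf_eq_prime (by rw [pow_two, he c hc']) hc1) (Ne.symm hyt)
            hyc.symm hc'.symm (he.comm hyc hc') with rfl | rfl | rfl
          · exact Or.inl htD.1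
          · exact Or.inr (by rw [mul_self_of_two hy]; exact one_mem _)
          · exact Or.inr (by rw [mul_assoc, mul_self_of_two hy, mul_one]; exact htD.1)
        · exact h c hc'
      rcases key with h | h
      · exact Subgroup.mem_sup_left (hmk c h hc')
      · have := mul_mem (Subgroup.mem_sup_left (hmk (c * y) h (by
            rw [mul_assoc, hyc, ← mul_assoc, hc', mul_assoc])) :
          c * y ∈ D ⊔ Subgroup.zpowers y)
          (Subgroup.mem_sup_right (Subgroup.mem_zpowers y) : y ∈ D ⊔ Subgroup.zpowers y)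
        rwa [mul_assoc, mul_self_of_two hy, mul_one] at this
  · have ht1 := ne_one_of_two ht
    haveI : Fact (Nat.Prime 2) := ⟨Nat.prime_two⟩
    haveI := P.isNilpotent hN ht1
    have hin : ∀ x ∈ Subgroup.centralizer ({t} : Set G), x ≠ 1 → Odd (orderOf x) → x ∈ P.comp t := by
      intro x hx hx1 ho
      refine (mem_or_sq P ht (Subgroup.mem_centralizer_singleton_iff.1 hx)).resolve_right fun h => ?_
      rw [orderOf_eq_prime (show x ^ 2 = 1 by rw [pow_two, h]) hx1] at ho
      exact absurd ho (by decide)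
    have huniq : ∀ s ∈ P.comp t, orderOf s = 2 → s = t := by
      intro s hs hso
      obtain ⟨c, hcA, hc2, hc1, hcZ⟩ := exists_central_of_prime (A := P.comp t) (q := 2)
        (by have := (P.comp t).orderOf_dvd_natCard (P.mem t ht1); rwa [ht] at this)
      have hco : orderOf c = 2 := orderOf_eq_prime hc2 hc1
      have hct : t = c := by
        by_contra h
        exact hpair t c ht hco h (hcZ t (P.mem t ht1)) hcA
      by_contra hst
      exact hpair s c hso hco (fun e => hst (e.trans hct.symm)) (hcZ s hs)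
        (by rw [P.eq_of_mem t s ht1 hs (ne_one_of_two hso)]; exact hcA)
    have := P.normalizes ht1 (hin y hy hy1 hodd) hy1
      (hin _ hgy (fun e => hy1 (conj_eq_one_iff.1 e)) (by rwa [orderOf_conj])) (P.mem t ht1)
    exact Subgroup.mem_centralizer_singleton_iff.2
      (mul_inv_eq_iff_eq_mul.1 (huniq _ this ((orderOf_conj g t).trans ht)))

/-- A partitioned group with no solvable normal subgroup. -/
theorem semisimple_case (P : Part G) (hN : P.NSN)
    (hR : ∀ N : Subgroup G, N.Normal → Group.IsSolvable N → N = ⊥) :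
    (∃ (F : Type) (_ : Field F) (_ : Fintype F), 4 ≤ Fintype.card F ∧
        Nonempty (G ≃* Matrix.ProjectiveSpecialLinearGroup (Fin 2) F)) ∨
    (∃ (F : Type) (_ : Field F) (_ : Fintype F), 5 ≤ Fintype.card F ∧ Odd (Fintype.card F) ∧
        Nonempty (G ≃* (GL (Fin 2) F ⧸ Subgroup.center (GL (Fin 2) F)))) ∨
    Cfsg.Lie.IsoSuzuki G := by
  classical
  haveI : Fact (Nat.Prime 2) := ⟨Nat.prime_two⟩
  have hsys : ∀ {M F : Subgroup G}, CfsgLib.Perm.FrobSystem.Sys M F → 2 ∣ Nat.card F →
      (∃ (F : Type) (_ : Field F) (_ : Fintype F), 4 ≤ Fintype.card F ∧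
          Nonempty (G ≃* Matrix.ProjectiveSpecialLinearGroup (Fin 2) F)) ∨
      (∃ (F : Type) (_ : Field F) (_ : Fintype F), 5 ≤ Fintype.card F ∧ Odd (Fintype.card F) ∧
          Nonempty (G ≃* (GL (Fin 2) F ⧸ Subgroup.center (GL (Fin 2) F)))) ∨
      Cfsg.Lie.IsoSuzuki G := fun h h2 => (of_sys h h2 hR).elim Or.inl fun hS => Or.inr (Or.inr hS)
  obtain ⟨S⟩ : Nonempty (Sylow 2 G) := inferInstance
  by_cases hα : ∃ (x₀ : G) (T : Sylow 2 G), x₀ ≠ 1 ∧ (T : Subgroup G) ≤ P.comp x₀
  · obtain ⟨x₀, T, hx₀, hT⟩ := hα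
    obtain ⟨M, F, h, h2⟩ := sys_of_member_sylow P hN hR hx₀ T hT
    exact hsys h h2
  push Not at hα
  obtain ⟨x₁, x₂, hx₁, hx₂, hx12, hx⟩ := exists_commuting hR
  obtain ⟨g₀, hg₁, hg₂⟩ := CfsgLib.Involution.Basic.exists_conj_pair_mem S hx₁ hx₂ hx
  set p₁ := g₀ * x₁ * g₀⁻¹ with hp₁def
  set p₂ := g₀ * x₂ * g₀⁻¹ with hp₂def
  have hp₁ : orderOf p₁ = 2 := (orderOf_conj g₀ x₁).trans hx₁
  have hp₂ : orderOf p₂ = 2 := (orderOf_conj g₀ x₂).trans hx₂
  have hp12 : p₁ ≠ p₂ := fun e => hx12 ((MulAut.conj g₀).injective e)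
  have hS2 : 2 ∣ Nat.card (S : Subgroup G) := by
    have := (S : Subgroup G).orderOf_dvd_natCard hg₁
    rwa [hp₁] at this
  haveI : Group.IsNilpotent (S : Subgroup G) := S.isPGroup'.isNilpotent
  obtain ⟨z, hzS, hz2, hz1, hzZ⟩ := exists_central_of_prime (A := (S : Subgroup G)) (q := 2) hS2
  have hz : orderOf z = 2 := orderOf_eq_prime hz2 hz1
  -- every involution commutes with another one
  have hex : ∀ t : G, orderOf t = 2 → ∃ y, orderOf y = 2 ∧ y ≠ t ∧ y * t = t * y := by
    intro t ht
    obtain ⟨g, hg, -⟩ := CfsgLib.Involution.Basic.exists_conj_pair_mem S ht ht (Commute.refl t)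
    obtain ⟨w, hwo, hwne, hw⟩ : ∃ w, orderOf w = 2 ∧ w ≠ g * t * g⁻¹ ∧
        w * (g * t * g⁻¹) = g * t * g⁻¹ * w := by
      by_cases hgz : g * t * g⁻¹ = z
      · rw [hgz]
        by_cases h1 : p₁ = z
        · exact ⟨p₂, hp₂, fun e => hp12 (h1.trans e.symm), hzZ p₂ hg₂⟩
        · exact ⟨p₁, hp₁, h1, hzZ p₁ hg₁⟩
      · exact ⟨z, hz, Ne.symm hgz, (hzZ _ hg).symm⟩
    refine ⟨g⁻¹ * w * g, (CfsgLib.Perm.FrobSystem.orderOf_conj' g w).trans hwo,
      fun e => hwne (by rw [← e]; group), ?_⟩
    calc g⁻¹ * w * g * t = g⁻¹ * (w * (g * t * g⁻¹)) * g := by group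
      _ = g⁻¹ * (g * t * g⁻¹ * w) * g := by rw [hw]
      _ = _ := by group
  -- moving three commuting involutions into `S`
  have hthree_of : (∀ t a b : G, t ∈ (S : Subgroup G) → a ∈ (S : Subgroup G) → b ∈ (S : Subgroup G) →
        orderOf t = 2 → orderOf a = 2 → orderOf b = 2 → t ≠ a → t * a = a * t → t * b = b * t →
        a * b = b * a → b = t ∨ b = a ∨ b = t * a) →
      ∀ t a b : G, orderOf t = 2 → orderOf a = 2 → orderOf b = 2 → t ≠ a → t * a = a * t →
        t * b = b * t → a * b = b * a → b = t ∨ b = a ∨ b = t * a := by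
    intro h t a b ht ha hb hne hta htb hab
    have hgen : ∀ u ∈ ({t, a, b} : Set G), ∀ v ∈ ({t, a, b} : Set G), u * v = v * u := by
      intro u hu v hv
      rcases hu with rfl | rfl | rfl <;> rcases hv with rfl | rfl | rfl
      exacts [rfl, hta, htb, hta.symm, rfl, hab, htb.symm, hab.symm, rfl]
    have hK : IsPGroup 2 (Subgroup.closure ({t, a, b} : Set G)) := by
      haveI := Subgroup.isMulCommutative_closure hgen
      rintro ⟨x, hx⟩
      refine ⟨1, Subtype.ext ?_⟩
      show x ^ 2 ^ 1 = 1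
      rw [pow_one]
      induction hx using Subgroup.closure_induction with
      | mem u hu => rcases hu with rfl | rfl | rfl <;> (rw [pow_two]; apply mul_self_of_two; assumption)
      | one => exact one_pow 2
      | mul u v hu hv eu ev =>
        rw [(show Commute u v from congrArg Subtype.val
          ((isMulCommutative_iff.1 this) ⟨u, hu⟩ ⟨v, hv⟩)).mul_pow, eu, ev, one_mul]
      | inv u hu eu => rw [inv_pow, eu, inv_one]
    obtain ⟨g, hg⟩ := CfsgLib.Involution.Basic.exists_conj_le S hK
    have hinj := (MulAut.conj g).injective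
    have hc : ∀ u v : G, u * v = v * u →
        g * u * g⁻¹ * (g * v * g⁻¹) = g * v * g⁻¹ * (g * u * g⁻¹) := fun u v e => by
      rw [← MulAut.conj_apply, ← MulAut.conj_apply, ← map_mul, ← map_mul, e]
    rcases h _ _ _ (hg t (Subgroup.subset_closure (by simp))) (hg a (Subgroup.subset_closure (by simp)))
      (hg b (Subgroup.subset_closure (by simp))) ((orderOf_conj g t).trans ht)
      ((orderOf_conj g a).trans ha) ((orderOf_conj g b).trans hb) (fun e => hne (hinj e))
      (hc t a hta) (hc t b htb) (hc a b hab) with e | e | e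
    · exact Or.inl (hinj e)
    · exact Or.inr (Or.inl (hinj e))
    · refine Or.inr (Or.inr (hinj ?_))
      rw [MulAut.conj_apply, MulAut.conj_apply, e]
      group
  have hpair_of : (∀ u v : G, u ∈ (S : Subgroup G) → v ∈ (S : Subgroup G) → orderOf u = 2 →
        orderOf v = 2 → u ≠ v → u * v = v * u → v ∉ P.comp u) →
      ∀ u v : G, orderOf u = 2 → orderOf v = 2 → u ≠ v → u * v = v * u → v ∉ P.comp u := by
    intro h u v hu hv hne huv hvA
    obtain ⟨g, h1, h2⟩ := CfsgLib.Involution.Basic.exists_conj_pair_mem S hu hv huv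
    exact h _ _ h1 h2 ((orderOf_conj g u).trans hu) ((orderOf_conj g v).trans hv)
      (fun e => hne ((MulAut.conj g).injective e)) ((show Commute u v from huv).map (MulAut.conj g)).eq
      (P.conj_mem g u v (ne_one_of_two hu) hvA)
  have hfinal : (∀ u v : G, u ∈ (S : Subgroup G) → v ∈ (S : Subgroup G) → orderOf u = 2 →
        orderOf v = 2 → u ≠ v → u * v = v * u → v ∉ P.comp u) →
      (∀ t a b : G, t ∈ (S : Subgroup G) → a ∈ (S : Subgroup G) → b ∈ (S : Subgroup G) →
        orderOf t = 2 → orderOf a = 2 → orderOf b = 2 → t ≠ a → t * a = a * t → t * b = b * t →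
        a * b = b * a → b = t ∨ b = a ∨ b = t * a) →
      (∃ (F : Type) (_ : Field F) (_ : Fintype F), 4 ≤ Fintype.card F ∧
          Nonempty (G ≃* Matrix.ProjectiveSpecialLinearGroup (Fin 2) F)) ∨
      (∃ (F : Type) (_ : Field F) (_ : Fintype F), 5 ≤ Fintype.card F ∧ Odd (Fintype.card F) ∧
          Nonempty (G ≃* (GL (Fin 2) F ⧸ Subgroup.center (GL (Fin 2) F)))) ∨
      Cfsg.Lie.IsoSuzuki G := fun h1 h2 =>
    (dihedral_final P hN hR (hpair_of h1) (hthree_of h2) hex).elim Or.inl fun h => Or.inr (Or.inl h)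
  have hnorm_eq : ∀ {x g : G}, x ≠ 1 → P.comp (g * x * g⁻¹) = P.comp x →
      g ∈ Subgroup.normalizer (P.comp x : Set G) := fun {x g} hx0 e =>
    Subgroup.mem_normalizer_iff_map_conj_eq.2 ((P.comp_conj hx0).symm.trans e)
  have hfix : ∀ {x g u : G}, x ≠ 1 → u ∈ P.comp x → u ≠ 1 → g * u * g⁻¹ ∈ P.comp x →
      g ∈ Subgroup.normalizer (P.comp x : Set G) := by
    intro x g u hx0 hu hu1 h
    refine hnorm_eq hx0 ?_
    have h1 := P.eq_of_mem (g * x * g⁻¹) _ (fun e => hx0 (conj_eq_one_iff.1 e)) (P.conj_mem g x u hx0 hu)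
      (fun e => hu1 (conj_eq_one_iff.1 e))
    rw [← h1]
    exact P.eq_of_mem x _ hx0 h fun e => hu1 (conj_eq_one_iff.1 e)
  have hnontop : ∀ {x : G}, x ≠ 1 → Subgroup.normalizer (P.comp x : Set G) ≠ ⊤ := by
    intro x hx0 h
    haveI : (P.comp x).Normal := Subgroup.normalizer_eq_top_iff.1 h
    haveI := P.isNilpotent hN hx0
    have := hR (P.comp x) inferInstance inferInstance
    exact hx0 (Subgroup.mem_bot.1 (this ▸ P.mem x hx0))
  by_cases hEl : ∀ s ∈ (S : Subgroup G), s * s = 1
  · -- elementary Sylow 2-subgroups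
    have hab : ∀ a ∈ (S : Subgroup G), ∀ b ∈ (S : Subgroup G), a * b = b * a := by
      intro a ha b hb
      have h1 := inv_eq_of_mul_eq_one_right (hEl (a * b) (mul_mem ha hb))
      rwa [mul_inv_rev, inv_eq_of_mul_eq_one_right (hEl a ha), inv_eq_of_mul_eq_one_right (hEl b hb),
        eq_comm] at h1
    have hinv : ∀ s ∈ (S : Subgroup G), s ≠ 1 → orderOf s = 2 := fun s hs hs1 =>
      orderOf_eq_prime (by rw [pow_two, hEl s hs]) hs1
    by_cases hbig : Nat.card (S : Subgroup G) ≤ 4
    · -- a four-group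
      have hfour : ∀ u v : G, u ∈ (S : Subgroup G) → v ∈ (S : Subgroup G) → orderOf u = 2 →
          orderOf v = 2 → u ≠ v → ∀ s ∈ (S : Subgroup G), s = 1 ∨ s = u ∨ s = v ∨ s = u * v := by
        intro u v hu hv huo hvo hne s hs
        by_contra hcon
        push Not at hcon
        obtain ⟨hs1, hs2, hs3, hs4⟩ := hcon
        have huv : u * v ≠ 1 := fun e =>
          hne ((inv_of_two huo).symm.trans (inv_eq_of_mul_eq_one_right e))
        have e1 : u * v ≠ u := fun e => ne_one_of_two hvo (mul_eq_left.1 e)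
        have e2 : u * v ≠ v := fun e => ne_one_of_two huo (mul_eq_right.1 e)
        let T : Finset G := {1, u, v, u * v, s}
        have hT : T.card = 5 := by
          simp [T, Ne.symm (ne_one_of_two huo), Ne.symm (ne_one_of_two hvo), hne, Ne.symm huv,
            Ne.symm e1, Ne.symm e2, Ne.symm hs1, Ne.symm hs2, Ne.symm hs3, Ne.symm hs4]
        have hle : T.card ≤ Nat.card (S : Subgroup G) := by
          rw [← Nat.card_eq_finsetCard]
          refine Nat.card_le_card_of_injective (fun x : T => (⟨x.1, ?_⟩ : (S : Subgroup G))) ?_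
          · obtain ⟨x, hx⟩ := x
            simp only [T, Finset.mem_insert, Finset.mem_singleton] at hx
            obtain rfl | rfl | rfl | rfl | rfl := hx
            exacts [one_mem _, hu, hv, mul_mem hu hv, hs]
          · intro x y e
            exact Subtype.ext (congrArg (fun r : (S : Subgroup G) => (r : G)) e)
        omega
      refine hfinal (fun u v hu hv huo hvo hne _ hvA => hα u S (ne_one_of_two huo) fun s hs => ?_)
        (fun t a b ht ha hb hto hao hbo hne _ _ _ => ?_)
      · rcases hfour u v hu hv huo hvo hne s hs with rfl | rfl | rfl | rfl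
        exacts [one_mem _, P.mem _ (ne_one_of_two huo), hvA, mul_mem (P.mem _ (ne_one_of_two huo)) hvA]
      · exact (hfour t a ht ha hto hao hne b hb).resolve_left (ne_one_of_two hbo)
    push Not at hbig
    by_cases hallE : ∀ t : G, orderOf t = 2 → Elem2 t
    · -- all centralisers are Sylow 2-subgroups
      have hCS : ∀ u ∈ (S : Subgroup G), u ≠ 1 → ∀ c, c * u = u * c → c ∈ (S : Subgroup G) := by
        intro u hu hu1 c hc
        have hp : IsPGroup 2 (Subgroup.centralizer ({u} : Set G)) := fun d => ⟨1, Subtype.ext (by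
          show (d : G) ^ 2 ^ 1 = 1
          rw [pow_one, pow_two]
          exact hallE u (hinv u hu hu1) d (Subgroup.mem_centralizer_singleton_iff.1 d.2))⟩
        have hle : (S : Subgroup G) ≤ Subgroup.centralizer ({u} : Set G) := fun s hs =>
          Subgroup.mem_centralizer_singleton_iff.2 (hab s hs u hu)
        rw [← S.is_maximal' hp hle]
        exact Subgroup.mem_centralizer_singleton_iff.2 hc
      have hnS : Subgroup.normalizer ((S : Subgroup G) : Set G) ≠ ⊤ := fun h => by
        haveI : (S : Subgroup G).Normal := Subgroup.normalizer_eq_top_iff.1 h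
        have := hR (S : Subgroup G) inferInstance inferInstance
        exact hz1 (Subgroup.mem_bot.1 (this ▸ hzS))
      refine hsys (M := Subgroup.normalizer ((S : Subgroup G) : Set G)) (F := (S : Subgroup G))
        ⟨Subgroup.le_normalizer, fun g hg u hu => (Subgroup.mem_normalizer_iff.1 hg u).1 hu,
          fun x _ hxS u hu hux => ?_, fun g hg u hu hgu => ?_,
          fun h => hz1 (Subgroup.mem_bot.1 (h ▸ hzS)), hnS⟩ hS2
      · by_contra hu1
        exact hxS (hCS u hu hu1 x hux.symm)
      · by_contra hu1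
        refine hg (Subgroup.mem_normalizer_iff_map_conj_eq.2 (Subgroup.eq_of_le_of_card_ge ?_
          (le_of_eq (Subgroup.card_map_of_injective (MulAut.conj g).injective).symm)))
        rintro _ ⟨y, hy, rfl⟩
        refine hCS _ hgu (fun e => hu1 (conj_eq_one_iff.1 e)) _ ?_
        exact ((show Commute y u from hab y hy u hu).map (MulAut.conj g)).eq
    push Not at hallE
    obtain ⟨t', ht', hne'⟩ := hallE
    obtain ⟨g₁, hg₁', -⟩ := CfsgLib.Involution.Basic.exists_conj_pair_mem S ht' ht' (Commute.refl t')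
    set t := g₁ * t' * g₁⁻¹ with htdef
    have ht : orderOf t = 2 := (orderOf_conj g₁ t').trans ht'
    have hnt : ¬ Elem2 t := fun h => hne' (by
      have := h.conj g₁⁻¹
      rwa [htdef, inv_inv, show g₁⁻¹ * (g₁ * t' * g₁⁻¹) * g₁ = t' by group] at this)
    have ht1 := ne_one_of_two ht
    -- members meeting `S` in a hyperplane
    let Big : G → Prop := fun w => ∃ y ∈ (S : Subgroup G), ∀ s ∈ (S : Subgroup G),
      s ∈ P.comp w ∨ s * y ∈ P.comp w
    have hBig : ∀ w ∈ (S : Subgroup G), w ≠ 1 → ¬ Elem2 w → Big w := by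
      intro w hw hw1 hnw
      obtain ⟨y, hy, hyA⟩ := SetLike.not_le_iff_exists.1 (hα w S hw1)
      exact ⟨y, hy, fun s hs =>
        ((elem_or_index_two P (hinv w hw hw1) (hab y hy w hw) hyA).resolve_left hnw) s (hab s hs w hw)⟩
    have hBigUniq : ∀ w w' : G, w ≠ 1 → w' ≠ 1 → Big w → Big w' → P.comp w = P.comp w' := by
      rintro w w' hw hw' ⟨y, hy, hyw⟩ ⟨y', hy', hyw'⟩
      letI := Fintype.ofFinite (S : Subgroup G)
      obtain ⟨⟨s, hs⟩, ⟨r, hr⟩, hne, he⟩ := Fintype.exists_ne_map_eq_of_card_lt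
        (fun s : (S : Subgroup G) => (decide ((s : G) ∈ P.comp w), decide ((s : G) ∈ P.comp w')))
        (by rw [← Nat.card_eq_fintype_card (α := (S : Subgroup G))]; simpa using hbig)
      simp only [Prod.mk.injEq, decide_eq_decide] at he
      have hsr1 : s * r⁻¹ ≠ 1 := fun e => hne (Subtype.ext (mul_inv_eq_one.1 e))
      have hin : ∀ {v y : G}, (∀ x ∈ (S : Subgroup G), x ∈ P.comp v ∨ x * y ∈ P.comp v) →
          (s ∈ P.comp v ↔ r ∈ P.comp v) → s * r⁻¹ ∈ P.comp v := by
        intro v y hv hiff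
        by_cases h : s ∈ P.comp v
        · exact mul_mem h (inv_mem (hiff.1 h))
        · exact div_mem ((hv s hs).resolve_left h) ((hv r hr).resolve_left fun h' => h (hiff.2 h'))
      rw [← P.eq_of_mem w _ hw (hin hyw he.1) hsr1, P.eq_of_mem w' _ hw' (hin hyw' he.2) hsr1]
    have htBig := hBig t hg₁' ht1 hnt
    set M := Subgroup.normalizer (P.comp t : Set G) with hM
    have hSM : (S : Subgroup G) ≤ M := fun s hs =>
      hfix ht1 (P.mem t ht1) ht1 (by rw [hab s hs t hg₁', mul_inv_cancel_right]; exact P.mem t ht1)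
    have helem : ∀ v ∈ (S : Subgroup G), v ∉ P.comp t → Elem2 v := by
      intro v hv hvA
      by_contra h
      have hv1 : v ≠ 1 := fun e => hvA (e ▸ one_mem _)
      exact hvA (hBigUniq v t hv1 ht1 (hBig v hv hv1 h) htBig ▸ P.mem v hv1)
    have hCM : ∀ v ∈ (S : Subgroup G), v ≠ 1 → ∀ c, c * v = v * c → c ∈ M := by
      intro v hv hv1 c hc
      by_cases hvA : v ∈ P.comp t
      · exact hfix ht1 hvA hv1 (by rwa [hc, mul_inv_cancel_right])
      · have hct := (helem v hv hvA).comm hc (hab t hg₁' v hv)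
        exact hfix ht1 (P.mem t ht1) ht1 (by rw [hct, mul_inv_cancel_right]; exact P.mem t ht1)
    have hNSM : Subgroup.normalizer ((S : Subgroup G) : Set G) ≤ M := by
      intro g hg
      refine hnorm_eq ht1 (hBigUniq _ _ (fun e => ht1 (conj_eq_one_iff.1 e)) ht1 ?_ htBig)
      obtain ⟨y, hy, hyt⟩ := htBig
      refine ⟨g * y * g⁻¹, (Subgroup.mem_normalizer_iff.1 hg y).1 hy, fun s hs => ?_⟩
      have hs' : g⁻¹ * s * g ∈ (S : Subgroup G) := by
        have := (Subgroup.mem_normalizer_iff.1 (inv_mem hg) s).1 hs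
        rwa [inv_inv] at this
      rcases hyt _ hs' with h | h
      · left
        have := P.conj_mem g t _ ht1 h
        rwa [show g * (g⁻¹ * s * g) * g⁻¹ = s by group] at this
      · right
        have := P.conj_mem g t _ ht1 h
        rwa [show g * (g⁻¹ * s * g * y) * g⁻¹ = s * (g * y * g⁻¹) by group] at this
    have hfus : ∀ h s : G, s ∈ (S : Subgroup G) → orderOf s = 2 → h * s * h⁻¹ ∈ (S : Subgroup G) →
        h ∈ M := by
      intro h s hs hso hhs
      have hcen : ∀ x ∈ (S : Subgroup G), x ∈ Subgroup.centralizer ((S : Subgroup G) : Set G) :=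
        fun x hx => Subgroup.mem_centralizer_iff.2 fun y hy => hab y hy x hx
      obtain ⟨n, hn, hne⟩ := Sylow.conj_eq_normalizer_conj_of_mem_centralizer S s h⁻¹ (hcen s hs)
        (by rw [inv_inv]; exact hcen _ hhs)
      rw [inv_inv] at hne
      have hc : (n * h) * s = s * (n * h) := by
        calc n * h * s = n * (h * s * h⁻¹) * h := by group
          _ = _ := by rw [hne]; group
      have := mul_mem (hNSM (inv_mem hn)) (hCM s hs (ne_one_of_two hso) _ hc)
      rwa [inv_mul_cancel_left] at this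
    exfalso
    obtain ⟨v, hv, hvA⟩ := SetLike.not_le_iff_exists.1 (hα t S ht1)
    obtain ⟨c, hc⟩ := isConj_iff.1 (all_conj_of_fusion (hnontop ht1) S hSM hS2 hfus
      (hinv v hv fun e => hvA (e ▸ one_mem _)) ht)
    exact hnt (hc ▸ (helem v hv hvA).conj c)
  · -- non-elementary Sylow 2-subgroups
    push Not at hEl
    obtain ⟨s₀, hs₀, hs₀2⟩ := hEl
    obtain ⟨y, hy, hyA⟩ := SetLike.not_le_iff_exists.1 (hα z S hz1)
    have hyz : y * z = z * y := hzZ y hy
    have hidx : ∀ c, c * z = z * c → c ∈ P.comp z ∨ c * y ∈ P.comp z :=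
      (elem_or_index_two P hz hyz hyA).resolve_left fun h => hs₀2 (h s₀ (hzZ s₀ hs₀))
    have hcenS : ∀ w ∈ (S : Subgroup G), w ∈ P.comp z → w * w = 1 →
        ∀ s ∈ (S : Subgroup G), s * w = w * s := by
      intro w hw hwA hww s hs
      by_cases hsA : s ∈ P.comp z
      · exact comm_in P hz hyz hyA hsA (hzZ s hs) hwA (hzZ w hw)
      · have := inverts P hz (hzZ s hs) hsA hwA (hzZ w hw)
        rw [inv_eq_of_mul_eq_one_right hww, mul_inv_eq_iff_eq_mul] at this
        exact this
    by_cases hw : ∃ w ∈ (S : Subgroup G), w ∈ P.comp z ∧ orderOf w = 2 ∧ w ≠ z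
    · obtain ⟨w, hwS, hwA, hwo, hwz⟩ := hw
      exfalso
      set M := Subgroup.normalizer (P.comp z : Set G) with hM
      have hSM : (S : Subgroup G) ≤ M := fun s hs =>
        hfix hz1 (P.mem z hz1) hz1 (by rw [hzZ s hs, mul_inv_cancel_right]; exact P.mem z hz1)
      -- involutions of the member have non-elementary centralisers
      have hnin : ∀ v ∈ (S : Subgroup G), v ∈ P.comp z → orderOf v = 2 → ¬ Elem2 v :=
        fun v hv hvA hvo h => hs₀2 (h s₀ (hcenS v hv hvA (mul_self_of_two hvo) s₀ hs₀))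
      have hwz1 : z * w⁻¹ ≠ 1 := fun e => hwz (mul_inv_eq_one.1 e).symm
      have hout : ∀ v ∈ (S : Subgroup G), orderOf v = 2 → v ∉ P.comp z → Elem2 v := by
        intro v hv hvo hvA
        have hv1 := ne_one_of_two hvo
        have hzv : z * v = v * z := (hzZ v hv).symm
        have hwv : w * v = v * w := (hcenS w hwS hwA (mul_self_of_two hwo) v hv).symm
        have hnot : ∀ u, u ∈ P.comp z → u ≠ 1 → u ∉ P.comp v := fun u hu hu1 hu' => hvA (by
          rw [← P.eq_of_mem z u hz1 hu hu1, P.eq_of_mem v u hv1 hu' hu1]; exact P.mem v hv1)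
        have hzn := hnot z (P.mem z hz1) hz1
        refine (elem_or_index_two P hvo hzv hzn).resolve_right fun h => ?_
        rcases h w hwv with h' | h'
        · exact hnot w hwA (ne_one_of_two hwo) h'
        · exact hnot _ (mul_mem hwA (P.mem z hz1))
            (fun e => hwz ((eq_inv_of_mul_eq_one_left e).trans (inv_of_two hz))) h'
      have hfus : ∀ h s : G, s ∈ (S : Subgroup G) → orderOf s = 2 → h * s * h⁻¹ ∈ (S : Subgroup G) →
          h ∈ M := by
        intro h s hs hso hhs
        have hhso : orderOf (h * s * h⁻¹) = 2 := (orderOf_conj h s).trans hso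
        by_cases hsA : s ∈ P.comp z
        · refine hfix hz1 hsA (ne_one_of_two hso) ?_
          by_contra hA
          refine hnin s hs hsA hso ?_
          have := (hout _ hhs hhso hA).conj h⁻¹
          rwa [inv_inv, show h⁻¹ * (h * s * h⁻¹) * h = s by group] at this
        · have hA : h * s * h⁻¹ ∉ P.comp z := fun hA =>
            hnin _ hhs hA hhso ((hout s hs hso hsA).conj h)
          have hE := hout _ hhs hhso hA
          -- images of the central involutions commute with the image of `s`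
          have hmem : ∀ u ∈ (S : Subgroup G), u ∈ P.comp z → u * u = 1 → u ≠ 1 →
              h * u * h⁻¹ * (h * s * h⁻¹) = h * s * h⁻¹ * (h * u * h⁻¹) ∧ h * u * h⁻¹ ∈ M ∧
                orderOf (h * u * h⁻¹) = 2 := by
            intro u hu huA huu hu1
            have hc : h * u * h⁻¹ * (h * s * h⁻¹) = h * s * h⁻¹ * (h * u * h⁻¹) :=
              ((show Commute s u from hcenS u hu huA huu s hs).symm.map (MulAut.conj h)).eq
            refine ⟨hc, ?_, (orderOf_conj h u).trans (orderOf_eq_prime (by rw [pow_two, huu]) hu1)⟩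
            have hcz := hE.comm hc (hzZ _ hhs).symm
            exact hfix hz1 (P.mem z hz1) hz1 (by rw [hcz, mul_inv_cancel_right]; exact P.mem z hz1)
          obtain ⟨hc1, hm1, ho1⟩ := hmem z hzS (P.mem z hz1) (mul_self_of_two hz) hz1
          obtain ⟨hc2, hm2, ho2⟩ := hmem w hwS hwA (mul_self_of_two hwo) (ne_one_of_two hwo)
          by_cases h1 : h * z * h⁻¹ ∈ P.comp z
          · exact hfix hz1 (P.mem z hz1) hz1 h1
          by_cases h2 : h * w * h⁻¹ ∈ P.comp z
          · exact hfix hz1 hwA (ne_one_of_two hwo) h2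
          obtain ⟨m, hm, hma, hmb⟩ := exists_conj_pair S hSM hm1 hm2 ho1 ho2 (hE.comm hc1 hc2)
          have hout' : ∀ {u : G}, u ∉ P.comp z → m * u * m⁻¹ ∈ (S : Subgroup G) →
              m * u * m⁻¹ * y ∈ P.comp z := by
            intro u hu huS
            refine (hidx _ (hzZ _ huS)).resolve_left fun hin => hu ?_
            exact (Subgroup.mem_normalizer_iff.1 hm u).2 hin
          have hprod := div_mem (hout' h1 hma) (hout' h2 hmb)
          rw [show m * (h * z * h⁻¹) * m⁻¹ * (m * (h * w * h⁻¹) * m⁻¹)⁻¹ =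
            m * (h * (z * w⁻¹) * h⁻¹) * m⁻¹ by group] at hprod
          exact hfix hz1 (mul_mem (P.mem z hz1) (inv_mem hwA)) hwz1
            ((Subgroup.mem_normalizer_iff.1 hm _).2 hprod)
      have hvo : orderOf y = 2 := orderOf_eq_prime
        (by rw [pow_two, (mem_or_sq P hz hyz).resolve_left hyA]) fun e => hyA (e ▸ one_mem _)
      obtain ⟨c, hc⟩ := isConj_iff.1 (all_conj_of_fusion (hnontop hz1) S hSM hS2 hfus hvo hz)
      exact hnin z hzS (P.mem z hz1) hz (hc ▸ (hout y hy hvo hyA).conj c)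
    · -- dihedral Sylow 2-subgroups
      push Not at hw
      have hdiv : ∀ a b : G, a ∈ (S : Subgroup G) → b ∈ (S : Subgroup G) → a ∉ P.comp z →
          b ∉ P.comp z → a * b⁻¹ ∈ P.comp z := fun a b ha hb haA hbA =>
        div_mem ((hidx a (hzZ a ha)).resolve_left haA) ((hidx b (hzZ b hb)).resolve_left hbA)
      have hprod : ∀ a b : G, a ∈ (S : Subgroup G) → b ∈ (S : Subgroup G) → orderOf a = 2 →
          orderOf b = 2 → a ≠ b → a * b = b * a → a ∉ P.comp z → b ∉ P.comp z → a * b = z := by
        intro a b ha hb hao hbo hne hab' haA hbA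
        have h1 := hdiv a b ha hb haA hbA
        rw [inv_of_two hbo] at h1
        refine hw _ (mul_mem ha hb) h1 (orderOf_eq_prime ?_ fun e => hne ?_)
        · rw [(show Commute a b from hab').mul_pow, pow_two, pow_two, mul_self_of_two hao,
            mul_self_of_two hbo, one_mul]
        · exact (inv_of_two hao).symm.trans (inv_eq_of_mul_eq_one_right e)
      refine hfinal (fun u v hu hv huo hvo hne huv hvB => ?_)
        (fun t a b htS haS hbS hto hao hbo hne hta htb hab' => ?_)
      · have hu1 := ne_one_of_two huo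
        by_cases huA : u ∈ P.comp z
        · rw [P.eq_of_mem z u hz1 huA hu1] at hvB
          exact hne ((hw u hu huA huo).trans (hw v hv hvB hvo).symm)
        · have hvA : v ∉ P.comp z := fun h => huA (by
            rw [← P.eq_of_mem z v hz1 h (ne_one_of_two hvo), P.eq_of_mem u v hu1 hvB (ne_one_of_two hvo)]
            exact P.mem u hu1)
          have := hprod u v hu hv huo hvo hne huv huA hvA
          refine huA ?_
          have hzB : z ∈ P.comp u := this ▸ mul_mem (P.mem u hu1) hvB
          rw [P.eq_of_mem u z hu1 hzB hz1]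
          exact P.mem u hu1
      · by_cases htA : t ∈ P.comp z
        · obtain rfl := hw t htS htA hto
          have haA : a ∉ P.comp t := fun h => hne (hw a haS h hao).symm
          by_cases hbA : b ∈ P.comp t
          · exact Or.inl (hw b hbS hbA hbo)
          by_cases hba : b = a
          · exact Or.inr (Or.inl hba)
          refine Or.inr (Or.inr ?_)
          rw [← hprod a b haS hbS hao hbo (Ne.symm hba) hab' haA hbA, hab', mul_assoc,
            mul_self_of_two hao, mul_one]
        · by_cases haA : a ∈ P.comp z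
          · obtain rfl := hw a haS haA hao
            by_cases hbA : b ∈ P.comp a
            · exact Or.inr (Or.inl (hw b hbS hbA hbo))
            by_cases hbt : b = t
            · exact Or.inl hbt
            refine Or.inr (Or.inr ?_)
            rw [← hprod t b htS hbS hto hbo (Ne.symm hbt) htb htA hbA, ← mul_assoc,
              mul_self_of_two hto, one_mul]
          · have hta' := hprod t a htS haS hto hao hne hta htA haA
            by_cases hbA : b ∈ P.comp z
            · exact Or.inr (Or.inr ((hw b hbS hbA hbo).trans hta'.symm))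
            by_cases hbt : b = t
            · exact Or.inl hbt
            refine Or.inr (Or.inl ?_)
            have htb' := hprod t b htS hbS hto hbo (Ne.symm hbt) htb htA hbA
            exact mul_left_cancel (htb'.trans hta'.symm)

end CfsgLib.Perm.Partition
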