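import Cfsg.Agent.Lib.Perm.Partition.Basic

/-!
# Partitions: prime-power order and abelian normal subgroups
-/

set_option autoImplicit false
set_option linter.style.haveILetI false

namespace CfsgLib.Perm.Partition

variable {G : Type*} [Group G] [Finite G]

/-- In a group of prime-power order the elements with non-trivial `p`-th power lie in one member. -/
theorem Part.hughes_of_isPGroup (P : Part G) [Nontrivial G] {p : ℕ} (hp : p.Prime)
    (hG : IsPGroup p G) : Subgroup.closure {g : G | g ^ p ≠ 1} ≠ ⊤ := by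
  haveI : Fact p.Prime := ⟨hp⟩
  haveI := hG.center_nontrivial
  obtain ⟨⟨z, hz⟩, hz1⟩ := exists_ne (1 : Subgroup.center G)
  have hz1' : z ≠ 1 := fun e => hz1 (Subtype.ext e)
  intro htop
  refine P.ne_top z hz1' (eq_top_iff.mpr (htop ▸ (Subgroup.closure_le _).mpr fun g hg => ?_))
  by_contra hgm
  have hg1 : g ≠ 1 := fun e => hgm (e ▸ one_mem _)
  obtain ⟨hpr, he⟩ := P.prime_orderOf hz1' hg1 hgm (Subgroup.mem_center_iff.mp hz g).symm
  obtain ⟨k, hk⟩ := hG g
  obtain ⟨j, -, hj⟩ := (Nat.dvd_prime_pow hp).mp (orderOf_dvd_of_pow_eq_one hk)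
  rw [← he, hj] at hpr
  refine hg ?_
  rw [← pow_one p, ← ((Nat.Prime.pow_eq_iff hpr).mp rfl).2, ← hj, pow_orderOf_eq_one]

/-- A non-trivial solvable normal subgroup contains a non-trivial abelian one. -/
theorem exists_abelian_normal (N : Subgroup G) [N.Normal] (hs : Group.IsSolvable N) (hN : N ≠ ⊥) :
    ∃ M : Subgroup G, M.Normal ∧ M ≠ ⊥ ∧ ∀ u ∈ M, ∀ w ∈ M, Commute u w := by
  obtain ⟨M, hle, hmin⟩ := Finite.exists_le_minimal
    (p := fun K : Subgroup G => K.Normal ∧ K ≠ ⊥) (show N.Normal ∧ N ≠ ⊥ from ⟨inferInstance, hN⟩)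
  haveI := hmin.prop.1
  haveI : Group.IsSolvable M := Group.isSolvable_of_isSolvable_injective
    (f := Subgroup.inclusion hle) (Subgroup.inclusion_injective hle)
  haveI : Nontrivial M := (Subgroup.nontrivial_iff_ne_bot M).mpr hmin.prop.2
  have hlt : ⁅M, M⁆ < M := by
    refine lt_of_le_of_ne (Subgroup.commutator_le_left M M) fun e => ?_
    refine (Group.IsSolvable.commutator_lt_top_of_nontrivial M).ne
      (Subgroup.map_injective M.subtype_injective ?_)
    rw [← Subgroup.map_subtype_commutator] at e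
    rw [← MonoidHom.range_eq_map, Subgroup.range_subtype]
    exact e
  have h0 : ⁅M, M⁆ = ⊥ := by
    by_contra h
    exact hlt.not_ge (hmin.2 ⟨inferInstance, h⟩ hlt.le)
  exact ⟨M, hmin.prop.1, hmin.prop.2, fun u hu w hw =>
    (Subgroup.mem_centralizer_iff.mp (Subgroup.commutator_eq_bot_iff_le_centralizer.mp h0 hu) w hw).symm⟩

end CfsgLib.Perm.Partition
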